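import Groth.Agent.Lib.GrLC.Pos
import Groth.Prelude.Def_GrSeg
import Mathlib.RingTheory.FiniteType
import Mathlib.LinearAlgebra.Dual.Lemmas
import Mathlib.LinearAlgebra.FiniteDimensional.Basic
import Mathlib.RingTheory.Artinian.Module

/-!
# Graded duals over a field
-/

universe u

open DirectSum

namespace GrothLib.GrDual

open GrothLib.GrLC (cmp cmp_mem cmp_of_mem cmp_of_mem_ne gr_induction eq_zero_of_cmp cmp_smul_of_mem cmp_smul_mem
  exists_sum_cmp smul_mem')

variable {k : Type u} [Field k] {R : Type u} [CommRing R] [Algebra k R] {𝒜 : ℤ → Submodule k R} [GradedAlgebra 𝒜]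

section KModule

variable {M : Type u} [AddCommGroup M] [Module R M] [Module k M] [IsScalarTower k R M] {τ : Type u} [SetLike τ M]
  [AddSubgroupClass τ M] (ℳ : ℤ → τ) [Decomposition ℳ] [SetLike.GradedSMul 𝒜 ℳ]

theorem algebraMap_mem (c : k) : algebraMap k R c ∈ 𝒜 0 := SetLike.algebraMap_mem_graded 𝒜 c

include 𝒜 in
theorem smulk_mem (c : k) {g : ℤ} {x : M} (hx : x ∈ ℳ g) : c • x ∈ ℳ g := by
  have h : algebraMap k R c • x ∈ ℳ (0 + g) := smul_mem' ℳ (algebraMap_mem (𝒜 := 𝒜) c) hx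
  rwa [zero_add, algebraMap_smul] at h

include 𝒜 in
theorem cmp_smulk (c : k) (x : M) (g : ℤ) : cmp ℳ g (c • x) = c • cmp ℳ g x := by
  rw [← algebraMap_smul R c x, ← algebraMap_smul R c (cmp ℳ g x),
    cmp_smul_of_mem ℳ (algebraMap_mem (𝒜 := 𝒜) c) x g, sub_zero]

variable (𝒜) in
/-- the projection to a piece, linear over the field -/
noncomputable def projK (g : ℤ) : M →ₗ[k] M where
  toFun := cmp ℳ g
  map_add' := map_add _
  map_smul' c x := cmp_smulk (𝒜 := 𝒜) ℳ c x g

variable (𝒜) in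
/-- a piece as a subspace -/
def pieceK (g : ℤ) : Submodule k M where
  carrier := (ℳ g : Set M)
  add_mem' ha hb := add_mem ha hb
  zero_mem' := zero_mem _
  smul_mem' c _ hx := smulk_mem (𝒜 := 𝒜) ℳ c hx

@[simp] theorem projK_apply (g : ℤ) (x : M) : projK 𝒜 ℳ g x = cmp ℳ g x := rfl

theorem mem_pieceK {g : ℤ} {x : M} : x ∈ pieceK 𝒜 ℳ g ↔ x ∈ ℳ g := Iff.rfl

theorem exists_lower [Module.Finite R M] (hpos : ∀ n : ℤ, n < 0 → 𝒜 n = ⊥) :
    ∃ b : ℤ, ∀ g, g < b → ∀ m ∈ ℳ g, m = 0 := by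
  have : Module.Finite R (GrothLib.GrLC.gmod 𝒜 ℳ).carrier := ‹Module.Finite R M›
  exact GrothLib.GrLC.exists_lower_bound (fun n hn r hr => by rwa [hpos n hn, Submodule.mem_bot] at hr)
    (GrothLib.GrLC.gmod 𝒜 ℳ)

end KModule

section Finite

variable (hpos : ∀ n : ℤ, n < 0 → 𝒜 n = ⊥) (h0 : 𝒜 0 = Submodule.span k {(1 : R)}) [Algebra.FiniteType k R]

include hpos h0 in
theorem finiteDimensional_ring_piece (n : ℤ) : FiniteDimensional k (𝒜 n) := by
  classical
  obtain ⟨T, hT⟩ := Algebra.FiniteType.out (R := k) (A := R)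
  choose S hS using fun t : R => exists_sum_cmp 𝒜 t
  let G : Finset (ℤ × R) := T.biUnion fun t => ((S t).filter (0 < ·)).image fun g => (g, cmp 𝒜 g t)
  have hG : ∀ p ∈ G, 0 < p.1 ∧ p.2 ∈ 𝒜 p.1 := by
    intro p hp
    simp only [G, Finset.mem_biUnion, Finset.mem_image, Finset.mem_filter] at hp
    obtain ⟨t, -, g, ⟨-, hg⟩, rfl⟩ := hp
    exact ⟨hg, cmp_mem 𝒜 g t⟩
  have key : ∀ r : R, r ∈ Submodule.span k {(1 : R)} ⊔ (Ideal.span (Prod.snd '' (G : Set (ℤ × R)))).restrictScalars k := by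
    intro r
    have hr : r ∈ Algebra.adjoin k (T : Set R) := hT ▸ Algebra.mem_top
    induction hr using Algebra.adjoin_induction with
    | mem t ht =>
      rw [hS t]
      refine sum_mem fun g hg => ?_
      rcases lt_trichotomy g 0 with h | rfl | h
      · have := cmp_mem 𝒜 g t
        rw [hpos g h, Submodule.mem_bot] at this
        rw [this]; exact zero_mem _
      · exact Submodule.mem_sup_left (h0 ▸ cmp_mem 𝒜 0 t)
      · exact Submodule.mem_sup_right (Ideal.subset_span ⟨(g, cmp 𝒜 g t), Finset.mem_biUnion.2 ⟨t, ht,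
          Finset.mem_image.2 ⟨g, Finset.mem_filter.2 ⟨hg, h⟩, rfl⟩⟩, rfl⟩)
    | algebraMap c =>
      exact Submodule.mem_sup_left (by
        rw [Algebra.algebraMap_eq_smul_one]; exact Submodule.smul_mem _ _ (Submodule.mem_span_singleton_self _))
    | add x y _ _ hx hy => exact add_mem hx hy
    | mul x y _ _ hx hy =>
      obtain ⟨u, hu, v, hv, rfl⟩ := Submodule.mem_sup.1 hx
      obtain ⟨c, rfl⟩ := Submodule.mem_span_singleton.1 hu
      rw [add_mul, Algebra.smul_mul_assoc, one_mul]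
      exact add_mem (Submodule.smul_mem _ c hy) (Submodule.mem_sup_right (Ideal.mul_mem_right _ _ hv))
  obtain ⟨m, rfl⟩ | hn : (∃ m : ℕ, (m : ℤ) = n) ∨ n < 0 := by
    rcases lt_or_ge n 0 with h | h
    · exact Or.inr h
    · exact Or.inl ⟨n.toNat, Int.toNat_of_nonneg h⟩
  swap
  · rw [hpos n hn]; infer_instance
  induction m using Nat.strong_induction_on with
  | _ m ih =>
    rcases Nat.eq_zero_or_pos m with rfl | hm
    · rw [Nat.cast_zero, h0]; exact FiniteDimensional.span_singleton k _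
    · have hfin : ∀ p : G, FiniteDimensional k (𝒜 ((m : ℤ) - p.1.1)) := fun p => by
        rcases lt_or_ge ((m : ℤ) - p.1.1) 0 with h | h
        · rw [hpos _ h]; infer_instance
        · have hlt := (hG p.1 p.2).1
          have := ih ((m : ℤ) - p.1.1).toNat (by omega)
          rwa [Int.toNat_of_nonneg h] at this
      let Φ : ((p : G) → 𝒜 ((m : ℤ) - p.1.1)) →ₗ[k] R :=
        ∑ p : G, (LinearMap.mulLeft k p.1.2) ∘ₗ (𝒜 ((m : ℤ) - p.1.1)).subtype ∘ₗ LinearMap.proj p
      refine Submodule.finiteDimensional_of_le (S₂ := LinearMap.range Φ) fun r hr => ?_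
      obtain ⟨u, hu, v, hv, huv⟩ := Submodule.mem_sup.1 (key r)
      obtain ⟨c, rfl⟩ := Submodule.mem_span_singleton.1 hu
      have hΦ : ∀ v ∈ Ideal.span (Prod.snd '' (G : Set (ℤ × R))), ∀ a : R,
          cmp 𝒜 (m : ℤ) (a * v) ∈ LinearMap.range Φ := by
        intro v hv
        induction hv using Submodule.span_induction with
        | mem v hv =>
          obtain ⟨p, hp, rfl⟩ := hv
          intro a
          rw [← smul_eq_mul, cmp_smul_mem (𝒜 := 𝒜) 𝒜 a (hG p hp).2]
          refine ⟨Pi.single ⟨p, hp⟩ ⟨cmp 𝒜 ((m : ℤ) - p.1) a, cmp_mem _ _ _⟩, ?_⟩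
          simp only [Φ, LinearMap.sum_apply, LinearMap.comp_apply, LinearMap.proj_apply, Submodule.subtype_apply,
            LinearMap.mulLeft_apply, smul_eq_mul]
          rw [Finset.sum_eq_single (⟨p, hp⟩ : G) (fun q _ hne => by rw [Pi.single_eq_of_ne hne]; simp)
            (fun h => absurd (Finset.mem_univ _) h), Pi.single_eq_same]
          exact mul_comm _ _
        | zero => intro a; rw [mul_zero, map_zero]; exact zero_mem _
        | add x y _ _ hx hy => intro a; rw [mul_add, map_add]; exact add_mem (hx a) (hy a)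
        | smul b x _ hx => intro a; rw [smul_eq_mul, ← mul_assoc]; exact hx (a * b)
      have h1 := hΦ v hv 1
      rw [one_mul] at h1
      rw [← cmp_of_mem 𝒜 hr, ← huv, map_add, cmp_of_mem_ne 𝒜
        (h0 ▸ Submodule.smul_mem _ c (Submodule.mem_span_singleton_self 1) : c • (1 : R) ∈ 𝒜 0)
        (by exact_mod_cast hm.ne), zero_add]
      exact h1

include hpos h0 in
theorem finiteDimensional_piece {M : Type u} [AddCommGroup M] [Module R M] [Module k M] [IsScalarTower k R M]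
    {τ : Type u} [SetLike τ M] [AddSubgroupClass τ M] (ℳ : ℤ → τ) [Decomposition ℳ] [SetLike.GradedSMul 𝒜 ℳ]
    [Module.Finite R M] (n : ℤ) : FiniteDimensional k (pieceK 𝒜 ℳ n) := by
  classical
  obtain ⟨T, hT⟩ := (Module.Finite.fg_top : (⊤ : Submodule R M).FG)
  choose S hS using fun t : M => exists_sum_cmp ℳ t
  let G : Finset (ℤ × M) := T.biUnion fun t => (S t).image fun g => (g, cmp ℳ g t)
  have := fun p : G => finiteDimensional_ring_piece hpos h0 (n - p.1.1)
  let Φ : ((p : G) → 𝒜 (n - p.1.1)) →ₗ[k] M :=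
    ∑ p : G, ((LinearMap.toSpanSingleton R M p.1.2).restrictScalars k) ∘ₗ (𝒜 (n - p.1.1)).subtype ∘ₗ LinearMap.proj p
  refine Submodule.finiteDimensional_of_le (S₂ := LinearMap.range Φ) fun x hx => ?_
  have hspan : x ∈ Submodule.span R (Prod.snd '' (G : Set (ℤ × M))) := by
    refine Submodule.span_le.2 ?_ (hT ▸ Submodule.mem_top : x ∈ Submodule.span R (T : Set M))
    intro t ht
    rw [SetLike.mem_coe, hS t]
    exact sum_mem fun g hg => Submodule.subset_span ⟨(g, cmp ℳ g t), Finset.mem_biUnion.2 ⟨t, ht,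
      Finset.mem_image.2 ⟨g, hg, rfl⟩⟩, rfl⟩
  rw [mem_pieceK] at hx
  rw [← cmp_of_mem ℳ hx, ← one_smul R x]
  suffices ∀ a : R, cmp ℳ n (a • x) ∈ LinearMap.range Φ from this 1
  clear hx
  induction hspan using Submodule.span_induction with
  | mem v hv =>
    obtain ⟨p, hp, rfl⟩ := hv
    intro a
    have hp' : p.2 ∈ ℳ p.1 := by
      obtain ⟨t, -, ht⟩ := Finset.mem_biUnion.1 hp
      obtain ⟨g, -, rfl⟩ := Finset.mem_image.1 ht
      exact cmp_mem ℳ g t
    rw [cmp_smul_mem (𝒜 := 𝒜) ℳ a hp']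
    refine ⟨Pi.single ⟨p, hp⟩ ⟨cmp 𝒜 (n - p.1) a, cmp_mem _ _ _⟩, ?_⟩
    simp only [Φ, LinearMap.sum_apply, LinearMap.comp_apply, LinearMap.proj_apply, Submodule.subtype_apply,
      LinearMap.restrictScalars_apply, LinearMap.toSpanSingleton_apply]
    rw [Finset.sum_eq_single (⟨p, hp⟩ : G) (fun q _ hne => by rw [Pi.single_eq_of_ne hne]; simp)
      (fun h => absurd (Finset.mem_univ _) h), Pi.single_eq_same]
  | zero => intro a; rw [smul_zero, map_zero]; exact zero_mem _
  | add x y _ _ hx hy => intro a; rw [smul_add, map_add]; exact add_mem (hx a) (hy a)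
  | smul b x _ hx => intro a; rw [smul_smul]; exact hx (a * b)

end Finite

end GrothLib.GrDual
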