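import Groth.Agent.Lib.GrDual.Basic

/-!
# The pairing of a graded dual
-/

universe u

open DirectSum

namespace GrothLib.GrDual

open _root_.GrLC (IsGrHom IsStarEss GMod IsStarInj)
open GrothLib.GrLC (cmp cmp_mem cmp_of_mem cmp_of_mem_ne gr_induction eq_zero_of_cmp cmp_smul_of_mem cmp_smul_mem
  exists_sum_cmp smul_mem' map_cmp)

variable {k : Type u} [Field k] {R : Type u} [CommRing R] [Algebra k R] {𝒜 : ℤ → Submodule k R} [GradedAlgebra 𝒜]
  {M : Type u} [AddCommGroup M] [Module R M] [Module k M] [IsScalarTower k R M] {τ : Type u} [SetLike τ M]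
  [AddSubgroupClass τ M] {ℳ : ℤ → τ} [Decomposition ℳ]
  {D : Type u} [AddCommGroup D] [Module R D] [Module k D] [IsScalarTower k R D] {τ' : Type u} [SetLike τ' D]
  [AddSubgroupClass τ' D] {𝒟 : ℤ → τ'} [Decomposition 𝒟]
  {β : D →ₗ[k] M →ₗ[k] k} (hβ : GrSeg.IsGDual R ℳ 𝒟 β)

include hβ

theorem apply_of_mem {n : ℤ} {d : D} (hd : d ∈ 𝒟 n) (x : M) : β d x = β d (cmp ℳ (-n) x) := by
  induction x using gr_induction ℳ with
  | h0 => simp
  | hh j x hx =>
    by_cases hj : j = -n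
    · subst hj; rw [cmp_of_mem ℳ hx]
    · rw [cmp_of_mem_ne ℳ hx hj, hβ.vanish n d hd j hj x hx, map_zero]
  | hadd a b ha hb => rw [map_add, map_add, map_add, ha, hb]

theorem cmp_apply {n : ℤ} (d : D) {x : M} (hx : x ∈ ℳ (-n)) : β (cmp 𝒟 n d) x = β d x := by
  induction d using gr_induction 𝒟 with
  | h0 => rw [map_zero, map_zero]
  | hh j d hd =>
    by_cases hj : j = n
    · subst hj; rw [cmp_of_mem 𝒟 hd]
    · rw [cmp_of_mem_ne 𝒟 hd hj, map_zero, LinearMap.zero_apply,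
        hβ.vanish j d hd (-n) (fun h => hj (neg_injective h).symm) x hx]
  | hadd a b ha hb => rw [map_add, map_add, map_add, LinearMap.add_apply, LinearMap.add_apply, ha, hb]

theorem ext_dual {d d' : D} (h : ∀ x, β d x = β d' x) : d = d' := by
  refine sub_eq_zero.1 (eq_zero_of_cmp 𝒟 fun n => hβ.eq_zero n _ (cmp_mem 𝒟 n _) fun x hx => ?_)
  rw [cmp_apply hβ _ hx, map_sub, LinearMap.sub_apply, h, sub_self]

theorem exists_dual (n : ℤ) (g : M →ₗ[k] k) : ∃ d ∈ 𝒟 n, ∀ x, β d x = g (cmp ℳ (-n) x) := by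
  obtain ⟨d, hd, h⟩ := hβ.exists_eq n g
  exact ⟨d, hd, fun x => by rw [apply_of_mem hβ hd x, h _ (cmp_mem ℳ _ x)]⟩

variable [SetLike.GradedSMul 𝒜 ℳ] [SetLike.GradedSMul 𝒜 𝒟]

include 𝒜

theorem ext_primal {y y' : M} (h : ∀ d, β d y = β d y') : y = y' := by
  refine sub_eq_zero.1 (eq_zero_of_cmp ℳ fun n => ?_)
  by_contra hne
  obtain ⟨g, hg⟩ := exists_dual hβ (-n) (Module.Projective.exists_dual_ne_zero k hne).choose
  refine (Module.Projective.exists_dual_ne_zero k hne).choose_spec ?_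
  have := hg.2 (y - y')
  rw [neg_neg] at this
  rw [← this, map_sub, h g, sub_self]

theorem exists_primal {n : ℤ} (hfin : FiniteDimensional k (pieceK 𝒜 ℳ n)) (g : D →ₗ[k] k) :
    ∃ y ∈ ℳ n, ∀ d ∈ 𝒟 (-n), β d y = g d := by
  classical
  let b := Module.finBasis k (pieceK 𝒜 ℳ n)
  have hex : ∀ i, ∃ d ∈ 𝒟 (-n), ∀ x : pieceK 𝒜 ℳ n, β d x = b.coord i x := fun i => by
    obtain ⟨c, hc⟩ := LinearMap.exists_extend (b.coord i)
    obtain ⟨d, hd, h⟩ := hβ.exists_eq (-n) c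
    exact ⟨d, hd, fun x => (h x (by rw [neg_neg]; exact x.2)).trans (LinearMap.congr_fun hc x)⟩
  choose d hd hd' using hex
  refine ⟨((∑ i, g (d i) • b i : pieceK 𝒜 ℳ n) : M), (∑ i, g (d i) • b i : pieceK 𝒜 ℳ n).2, fun e he => ?_⟩
  have hexp : e = ∑ i, β e (b i : M) • d i := by
    refine ext_dual hβ fun x => ?_
    rw [map_sum, LinearMap.sum_apply]
    simp only [map_smul, LinearMap.smul_apply, smul_eq_mul]
    rw [apply_of_mem hβ he x, neg_neg]
    have hx' : (∑ i, b.repr ⟨cmp ℳ n x, cmp_mem ℳ n x⟩ i • b i : pieceK 𝒜 ℳ n) = ⟨cmp ℳ n x, cmp_mem ℳ n x⟩ :=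
      b.sum_repr _
    conv_lhs => rw [show cmp ℳ n x = ((⟨cmp ℳ n x, cmp_mem ℳ n x⟩ : pieceK 𝒜 ℳ n) : M) from rfl, ← hx']
    rw [Submodule.coe_sum, map_sum]
    refine Finset.sum_congr rfl fun i _ => ?_
    rw [Submodule.coe_smul, map_smul, smul_eq_mul, mul_comm, apply_of_mem hβ (hd i) x, neg_neg,
      hd' i ⟨cmp ℳ n x, cmp_mem ℳ n x⟩]
    rfl
  conv_rhs => rw [hexp]
  rw [Submodule.coe_sum, map_sum, map_sum]
  refine Finset.sum_congr rfl fun i _ => ?_
  rw [Submodule.coe_smul, map_smul, map_smul, smul_eq_mul, smul_eq_mul, mul_comm]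

/-- Reflexivity. -/
theorem isGDual_flip (hfin : ∀ n, FiniteDimensional k (pieceK 𝒜 ℳ n)) : GrSeg.IsGDual R 𝒟 ℳ β.flip where
  map_smul r x d := (hβ.map_smul r d x).symm
  vanish n x hx m hm d hd := by
    simp only [LinearMap.flip_apply]
    exact hβ.vanish m d hd n (fun h => hm (by rw [h, neg_neg])) x hx
  eq_zero n x hx h := by
    refine ext_primal (𝒜 := 𝒜) hβ fun d => ?_
    rw [map_zero]
    have h1 : β d x = β (cmp 𝒟 (-n) d) x := (cmp_apply hβ d (by rwa [neg_neg])).symm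
    rw [h1]
    exact h _ (cmp_mem 𝒟 _ d)
  exists_eq n g := exists_primal hβ (hfin n) g

section Map

variable {F : Type u} [AddCommGroup F] [Module R F] [Module k F] [IsScalarTower k R F] {ℱ : ℤ → AddSubgroup F}
  [Decomposition ℱ] [SetLike.GradedSMul 𝒜 ℱ]
  {E : Type u} [AddCommGroup E] [Module R E] [Module k E] [IsScalarTower k R E] {ℰ : ℤ → AddSubgroup E}
  [Decomposition ℰ] {γ : E →ₗ[k] F →ₗ[k] k} (hγ : GrSeg.IsGDual R ℱ ℰ γ)

include hγ

/-- Every homogeneous map of duals is the dual of a unique one. -/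
theorem existsUnique_predual (hfin : ∀ n, FiniteDimensional k (pieceK 𝒜 ℳ n)) (g : D →ₗ[R] E)
    (hg : IsGrHom 𝒟 ℰ g) : ∃! f : F →ₗ[R] M, IsGrHom ℱ ℳ f ∧ GrSeg.IsGDualMap β γ f g := by
  have hhom : ∀ (n : ℤ), ∀ x ∈ ℱ n, ∃ y ∈ ℳ n, ∀ d, β d y = γ (g d) x := by
    intro n x hx
    obtain ⟨y, hy, h⟩ := exists_primal hβ (hfin n) ((γ.flip x) ∘ₗ g.restrictScalars k)
    refine ⟨y, hy, fun d => ?_⟩
    induction d using gr_induction 𝒟 with
    | h0 => simp
    | hh j d hd =>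
      by_cases hj : j = -n
      · subst hj; exact h d hd
      · rw [hβ.vanish j d hd n (fun e => hj (by rw [e, neg_neg])) y hy,
          hγ.vanish j _ (hg j d hd) n (fun e => hj (by rw [e, neg_neg])) x hx]
    | hadd a b ha hb => simp only [map_add, LinearMap.add_apply, ha, hb]
  have hall : ∀ x, ∃ y, ∀ d, β d y = γ (g d) x := by
    intro x
    induction x using gr_induction ℱ with
    | h0 => exact ⟨0, fun d => by simp⟩
    | hh n x hx => obtain ⟨y, -, h⟩ := hhom n x hx; exact ⟨y, h⟩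
    | hadd a b ha hb =>
      obtain ⟨y, hy⟩ := ha
      obtain ⟨z, hz⟩ := hb
      exact ⟨y + z, fun d => by rw [map_add, map_add, hy, hz]⟩
  choose f hf using hall
  refine ⟨{ toFun := f, map_add' := ?_, map_smul' := ?_ }, ⟨?_, fun d x => (hf x d).symm⟩, ?_⟩
  · exact fun a b => ext_primal (𝒜 := 𝒜) hβ fun d => by rw [map_add, hf, hf, hf, map_add]
  · exact fun r a => ext_primal (𝒜 := 𝒜) hβ fun d => by
      rw [RingHom.id_apply, hf, ← hβ.map_smul, hf, g.map_smul, hγ.map_smul]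
  · intro n x hx
    obtain ⟨y, hy, h⟩ := hhom n x hx
    change f x ∈ ℳ n
    rwa [show f x = y from ext_primal (𝒜 := 𝒜) hβ fun d => by rw [hf, h]]
  · intro f' hf'
    exact LinearMap.ext fun x => ext_primal (𝒜 := 𝒜) hβ fun d => by
      change β d (f' x) = β d (f x)
      rw [hf, hf'.2 d x]

end Map

end GrothLib.GrDual
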