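import Groth.Agent.Lib.GrDual.Pairing
import Mathlib.RingTheory.SimpleModule.Basic

/-!
# Noetherian and Artinian graded duals
-/

universe u

open DirectSum

namespace GrothLib.GrDual

open GrothLib.GrLC (cmp cmp_mem cmp_of_mem cmp_of_mem_ne gr_induction eq_zero_of_cmp cmp_smul_of_mem cmp_smul_mem
  exists_sum_cmp smul_mem' map_cmp)

variable {k : Type u} [Field k] {R : Type u} [CommRing R] [Algebra k R] {𝒜 : ℤ → Submodule k R} [GradedAlgebra 𝒜]
  {M : Type u} [AddCommGroup M] [Module R M] [Module k M] [IsScalarTower k R M] {τ : Type u} [SetLike τ M]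
  [AddSubgroupClass τ M] {ℳ : ℤ → τ} [Decomposition ℳ] [SetLike.GradedSMul 𝒜 ℳ]
  {D : Type u} [AddCommGroup D] [Module R D] [Module k D] [IsScalarTower k R D] {𝒟 : ℤ → AddSubgroup D}
  [Decomposition 𝒟] [SetLike.GradedSMul 𝒜 𝒟]
  {β : D →ₗ[k] M →ₗ[k] k}

variable (𝒟) in
/-- elements of `N` without components below `n` -/
def above (N : Submodule R D) (n : ℤ) : Set D := {d | d ∈ N ∧ ∀ j, j < n → cmp 𝒟 j d = 0}

theorem smul_above (hpos : ∀ n : ℤ, n < 0 → 𝒜 n = ⊥) {N : Submodule R D} {n i : ℤ} {r : R} (hr : r ∈ 𝒜 i) {d : D}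
    (hd : d ∈ above 𝒟 N n) : r • d ∈ above 𝒟 N (i + n) := by
  refine ⟨N.smul_mem r hd.1, fun j hj => ?_⟩
  rw [cmp_smul_of_mem 𝒟 hr, hd.2 (j - i) (by omega), smul_zero]

variable (hβ : GrSeg.IsGDual R ℳ 𝒟 β)

include hβ in
/-- A dual of a finite module is Artinian. -/
theorem isArtinian_dual (hpos : ∀ n : ℤ, n < 0 → 𝒜 n = ⊥) (hfin : ∀ n, FiniteDimensional k (pieceK 𝒜 ℳ n))
    [IsNoetherian R M] : IsArtinian R D := by
  classical
  have : Module.Finite R M := Module.IsNoetherian.finite R M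
  obtain ⟨b, hb⟩ := exists_lower (𝒜 := 𝒜) ℳ hpos
  have hbd : ∀ n, -b < n → ∀ d ∈ 𝒟 n, d = 0 := fun n hn d hd =>
    hβ.eq_zero n d hd fun x hx => by rw [hb (-n) (by omega) x hx, map_zero]
  let T : Submodule R D → Submodule R M := fun N =>
    { carrier := {y | ∀ (n : ℤ), ∀ d ∈ above 𝒟 N n, β (cmp 𝒟 n d) y = 0}
      add_mem' := fun {y z} hy hz n d hd => by rw [map_add, hy n d hd, hz n d hd, add_zero]
      zero_mem' := fun n d _ => map_zero _
      smul_mem' := fun r y hy n d hd => by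
        induction r using gr_induction 𝒜 with
        | h0 => rw [zero_smul, map_zero]
        | hh i r hr =>
          have h := cmp_smul_of_mem 𝒟 hr d (i + n)
          rw [add_sub_cancel_left] at h
          rw [← hβ.map_smul, ← h]
          exact hy (i + n) _ (smul_above hpos hr hd)
        | hadd u v hu hv => rw [add_smul, map_add, hu, hv, add_zero] }
  have hanti : ∀ N N', N ≤ N' → T N' ≤ T N := fun N N' h y hy n d hd => hy n d ⟨h hd.1, hd.2⟩
  have hflip := isGDual_flip (𝒜 := 𝒜) hβ hfin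
  have hstrict : ∀ N N' : Submodule R D, N ≤ N' → T N ≤ T N' → N' ≤ N := by
    intro N N' hle hT d hd
    suffices ∀ t : ℕ, ∀ e ∈ N', (∀ j, j ≤ -b - t → cmp 𝒟 j e = 0) → e ∈ N by
      obtain ⟨S, hS⟩ := exists_sum_cmp 𝒟 d
      obtain ⟨L, hL⟩ := S.bddBelow
      refine this (-b - (L - 1)).toNat d hd fun j hj => ?_
      rw [hS, map_sum]
      refine Finset.sum_eq_zero fun g hg => cmp_of_mem_ne 𝒟 (cmp_mem 𝒟 g d) ?_
      have := hL (Finset.mem_coe.2 hg)
      omega
    intro t
    induction t with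
    | zero =>
      intro e _ he
      have : e = 0 := eq_zero_of_cmp 𝒟 fun j => by
        rcases le_or_gt j (-b) with h | h
        · exact he j (by simpa using h)
        · exact hbd j h _ (cmp_mem 𝒟 j e)
      rw [this]; exact zero_mem N
    | succ t ih =>
      intro e he hlow
      let m : ℤ := -b - t
      let U : Submodule k D :=
        { carrier := {v | ∃ c ∈ above 𝒟 N m, cmp 𝒟 m c = v}
          zero_mem' := ⟨0, ⟨zero_mem N, fun j _ => map_zero _⟩, map_zero _⟩
          add_mem' := by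
            rintro _ _ ⟨c, hc, rfl⟩ ⟨c', hc', rfl⟩
            exact ⟨c + c', ⟨add_mem hc.1 hc'.1, fun j hj => by rw [map_add, hc.2 j hj, hc'.2 j hj, add_zero]⟩,
              map_add _ _ _⟩
          smul_mem' := by
            rintro a _ ⟨c, hc, rfl⟩
            exact ⟨a • c, ⟨Submodule.smul_of_tower_mem N a hc.1, fun j hj => by
              rw [cmp_smulk (𝒜 := 𝒜), hc.2 j hj, smul_zero]⟩, cmp_smulk (𝒜 := 𝒜) 𝒟 a c m⟩ }
      by_cases hU : cmp 𝒟 m e ∈ U
      · obtain ⟨c, hc, hce⟩ := hU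
        have hdiff : e - c ∈ N := ih _ (sub_mem he (hle hc.1)) fun j hj => by
          rw [map_sub]
          rcases hj.lt_or_eq with h | h
          · rw [hlow j (by push_cast; omega), hc.2 j h, sub_zero]
          · rw [h, hce, sub_self]
        simpa using add_mem hdiff hc.1
      · exfalso
        obtain ⟨lam, hlam, hlamU⟩ := Submodule.exists_dual_map_eq_bot_of_notMem (p := U) hU inferInstance
        obtain ⟨y, hy, hye⟩ := hflip.exists_eq (-m) lam
        simp only [neg_neg, LinearMap.flip_apply] at hye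
        have hyT : y ∈ T N := by
          intro n c hc
          by_cases hn : n = m
          · subst hn
            rw [hye _ (cmp_mem 𝒟 _ c)]
            exact (Submodule.mem_bot k).1 (hlamU ▸ Submodule.mem_map_of_mem (show cmp 𝒟 m c ∈ U from ⟨c, hc, rfl⟩))
          · exact hβ.vanish n _ (cmp_mem 𝒟 n c) (-m) (fun h => hn (neg_injective h).symm) y hy
        refine hlam ?_
        rw [← hye _ (cmp_mem 𝒟 _ e)]
        exact hT hyT m e ⟨he, fun j hj => hlow j (by push_cast; omega)⟩
  have hwf : WellFounded ((· > ·) : Submodule R M → Submodule R M → Prop) := wellFounded_gt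
  rw [isArtinian_iff]
  refine Subrelation.wf (r := InvImage (· > ·) T) (fun {N N'} h => ?_) (InvImage.wf T hwf)
  exact lt_of_le_not_ge (hanti N N' h.le) fun h' => h.not_ge (hstrict N N' h.le h')

/-- Pieces of Artinian modules are finite dimensional. -/
theorem finiteDimensional_piece_of_artinian (hpos : ∀ n : ℤ, n < 0 → 𝒜 n = ⊥)
    (h0 : 𝒜 0 = Submodule.span k {(1 : R)}) [IsArtinian R M] (n : ℤ) : FiniteDimensional k (pieceK 𝒜 ℳ n) := by
  let Φ : Submodule k (pieceK 𝒜 ℳ n) → Submodule R M := fun V =>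
    Submodule.span R ((V.map (pieceK 𝒜 ℳ n).subtype : Submodule k M) : Set M)
  have hΦ : ∀ V, ∀ x ∈ Φ V, ∀ c : R, cmp ℳ n (c • x) ∈ V.map (pieceK 𝒜 ℳ n).subtype := by
    intro V x hx
    induction hx using Submodule.span_induction with
    | mem y hy =>
      intro c
      obtain ⟨v, hv, rfl⟩ := hy
      change cmp ℳ n (c • (v : M)) ∈ _
      rw [cmp_smul_mem (𝒜 := 𝒜) ℳ c (v.2 : (v : M) ∈ ℳ n), sub_self]
      obtain ⟨a, ha⟩ := Submodule.mem_span_singleton.1 (h0 ▸ cmp_mem 𝒜 0 c : cmp 𝒜 0 c ∈ Submodule.span k {(1 : R)})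
      rw [← ha, smul_assoc, one_smul]
      exact Submodule.smul_mem _ a ⟨v, hv, rfl⟩
    | zero => intro c; rw [smul_zero, map_zero]; exact zero_mem _
    | add a b _ _ ha hb => intro c; rw [smul_add, map_add]; exact add_mem (ha c) (hb c)
    | smul c a _ ha => intro e; rw [smul_smul]; exact ha (e * c)
  have hle : ∀ V W, Φ V ≤ Φ W → V ≤ W := fun V W h v hv => by
    have h1 := hΦ W (v : M) (h (Submodule.subset_span ⟨v, hv, rfl⟩)) 1
    rw [one_smul, cmp_of_mem ℳ (v.2 : (v : M) ∈ ℳ n)] at h1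
    obtain ⟨w, hw, hwv⟩ := h1
    rwa [Subtype.ext hwv] at hw
  have hmono : ∀ V W, V ≤ W → Φ V ≤ Φ W := fun V W h => Submodule.span_mono (Set.image_mono h)
  have hwf : WellFounded ((· < ·) : Submodule R M → Submodule R M → Prop) := wellFounded_lt
  have : IsArtinian k (pieceK 𝒜 ℳ n) := by
    rw [isArtinian_iff]
    exact Subrelation.wf (r := InvImage (· < ·) Φ)
      (fun {V W} h => lt_of_le_not_ge (hmono V W h.le) fun h' => h.not_ge (hle W V h')) (InvImage.wf Φ hwf)
  exact ((IsSemisimpleModule.finite_tfae (R := k) (M := pieceK 𝒜 ℳ n)).out 0 2).2 this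

include hβ in
/-- A dual of an Artinian module is finite. -/
theorem finite_dual (hfin : ∀ n, FiniteDimensional k (pieceK 𝒜 ℳ n)) [IsArtinian R M] : Module.Finite R D := by
  classical
  have hflip := isGDual_flip (𝒜 := 𝒜) hβ hfin
  let perp : Submodule R D → Submodule R M := fun N =>
    { carrier := {y | ∀ e ∈ N, β e y = 0}
      add_mem' := fun {y z} hy hz e he => by rw [map_add, hy e he, hz e he, add_zero]
      zero_mem' := fun e _ => map_zero _
      smul_mem' := fun r y hy e he => by rw [← hβ.map_smul]; exact hy _ (N.smul_mem r he) }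
  let 𝒮 : Set (Submodule R M) :=
    {P | ∃ G : Finset D, (∀ e ∈ G, ∃ j, e ∈ 𝒟 j) ∧ perp (Submodule.span R (G : Set D)) = P}
  obtain ⟨P, ⟨G, hG, rfl⟩, hmin⟩ := IsArtinian.set_has_minimal 𝒮 ⟨_, ∅, by simp, rfl⟩
  refine ⟨⟨G, eq_top_iff.2 fun d _ => ?_⟩⟩
  obtain ⟨S, hS⟩ := exists_sum_cmp 𝒟 d
  rw [hS]
  refine sum_mem fun n _ => ?_
  by_contra hn
  let N : Submodule R D := Submodule.span R (G : Set D)
  have hhom : ∀ e ∈ N, ∀ j, cmp 𝒟 j e ∈ N := fun e he j => by
      induction he using Submodule.span_induction generalizing j with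
      | mem v hv =>
        obtain ⟨i, hi⟩ := hG v hv
        by_cases h : i = j
        · subst h; rw [cmp_of_mem 𝒟 hi]; exact Submodule.subset_span hv
        · rw [cmp_of_mem_ne 𝒟 hi h]; exact zero_mem _
      | zero => rw [map_zero]; exact zero_mem _
      | add a b _ _ ha hb => rw [map_add]; exact add_mem (ha j) (hb j)
      | smul c a _ ha =>
        induction c using gr_induction 𝒜 with
        | h0 => rw [zero_smul, map_zero]; exact zero_mem _
        | hh i r hr => rw [cmp_smul_of_mem 𝒟 hr]; exact Submodule.smul_mem _ r (ha _)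
        | hadd u v hu hv => rw [add_smul, map_add]; exact add_mem hu hv
  let U : Submodule k D := N.restrictScalars k
  obtain ⟨lam, hlam, hlamU⟩ := Submodule.exists_dual_map_eq_bot_of_notMem (p := U) hn inferInstance
  obtain ⟨y, hy, hye⟩ := hflip.exists_eq (-n) lam
  simp only [neg_neg, LinearMap.flip_apply] at hye
  have hyP : y ∈ perp N := fun e he => by
    rw [← cmp_apply hβ (n := n) e hy, hye _ (cmp_mem 𝒟 n e)]
    exact (Submodule.mem_bot k).1 (hlamU ▸ Submodule.mem_map_of_mem (show cmp 𝒟 n e ∈ U from hhom e he n))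
  let G' := insert (cmp 𝒟 n d) G
  have hle : perp (Submodule.span R (G' : Set D)) ≤ perp N := fun z hz e he =>
    hz e (Submodule.span_mono (Finset.coe_subset.2 (Finset.subset_insert _ _)) he)
  refine hmin _ ⟨G', fun e he => ?_, rfl⟩ (lt_of_le_not_ge hle fun h => hlam ?_)
  · rcases Finset.mem_insert.1 he with rfl | he
    · exact ⟨n, cmp_mem 𝒟 n d⟩
    · exact hG e he
  · rw [← hye _ (cmp_mem 𝒟 n d)]
    exact h hyP _ (Submodule.subset_span (Finset.mem_coe.2 (Finset.mem_insert_self _ _)))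

end GrothLib.GrDual
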