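import Groth.Agent.Lib.GrDual.Artin

/-!
# Artinian graded modules embed into sums of shifts of the dual of the ring
-/

universe u

open DirectSum

namespace GrothLib.GrDual

open GrothLib.GrLC (cmp cmp_mem cmp_of_mem cmp_of_mem_ne gr_induction eq_zero_of_cmp cmp_smul_of_mem cmp_smul_mem
  exists_sum_cmp smul_mem' map_cmp)

variable {k : Type u} [Field k] {R : Type u} [CommRing R] [Algebra k R] {𝒜 : ℤ → Submodule k R} [GradedAlgebra 𝒜]
  {D : Type u} [AddCommGroup D] [Module R D] [Module k D] [IsScalarTower k R D] {𝒟 : ℤ → AddSubgroup D}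
  [Decomposition 𝒟] [SetLike.GradedSMul 𝒜 𝒟] {β : D →ₗ[k] R →ₗ[k] k} (hβ : GrSeg.IsGDual R 𝒜 𝒟 β)
  {M : Type u} [AddCommGroup M] [Module R M] [Module k M] [IsScalarTower k R M] {ℳ : ℤ → AddSubgroup M}
  [Decomposition ℳ] [SetLike.GradedSMul 𝒜 ℳ]

include hβ in
/-- the map to the dual of the ring given by a functional on one piece -/
theorem exists_toDual (n : ℤ) (lam : M →ₗ[k] k) : ∃ f : M →ₗ[R] D, (∀ g, ∀ x ∈ ℳ g, f x ∈ 𝒟 (g + -n)) ∧
    ∀ x r, β (f x) r = lam (cmp ℳ n (r • x)) := by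
  have hhom : ∀ (g : ℤ), ∀ x ∈ ℳ g, ∃ d ∈ 𝒟 (g + -n), ∀ r, β d r = lam (cmp ℳ n (r • x)) := by
    intro g x hx
    obtain ⟨d, hd, h⟩ := exists_dual hβ (g + -n)
      ((lam ∘ₗ projK 𝒜 ℳ n) ∘ₗ (LinearMap.toSpanSingleton R M x).restrictScalars k)
    refine ⟨d, hd, fun r => ?_⟩
    rw [h r]
    change lam (cmp ℳ n (cmp 𝒜 (-(g + -n)) r • x)) = _
    rw [cmp_smul_mem (𝒜 := 𝒜) ℳ r hx, cmp_smul_mem (𝒜 := 𝒜) ℳ (cmp 𝒜 (-(g + -n)) r) hx,
      show -(g + -n) = n - g by ring, cmp_of_mem 𝒜 (cmp_mem 𝒜 _ r)]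
  have hex : ∀ x, ∃ d, ∀ r, β d r = lam (cmp ℳ n (r • x)) := by
    intro x
    induction x using gr_induction ℳ with
    | h0 => exact ⟨0, fun r => by simp⟩
    | hh g x hx => obtain ⟨d, -, h⟩ := hhom g x hx; exact ⟨d, h⟩
    | hadd u v hu hv =>
      obtain ⟨a, ha⟩ := hu
      obtain ⟨b, hb⟩ := hv
      exact ⟨a + b, fun r => by rw [map_add, LinearMap.add_apply, ha, hb, smul_add, map_add, map_add]⟩
  choose f hf using hex
  refine ⟨{ toFun := f, map_add' := ?_, map_smul' := ?_ }, fun g x hx => ?_, hf⟩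
  · exact fun u v => ext_dual hβ fun r => by
      rw [map_add, LinearMap.add_apply, hf, hf, hf, smul_add, map_add, map_add]
  · exact fun c u => ext_dual hβ fun r => by
      rw [RingHom.id_apply, hβ.map_smul, hf, hf, smul_eq_mul, mul_comm, mul_smul]
  · obtain ⟨d, hd, h⟩ := hhom g x hx
    change f x ∈ 𝒟 (g + -n)
    rwa [show f x = d from ext_dual hβ fun r => by rw [hf, h]]

include hβ in
theorem isArtinian_iff_embed (hpos : ∀ n : ℤ, n < 0 → 𝒜 n = ⊥) (h0 : 𝒜 0 = Submodule.span k {(1 : R)})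
    [Algebra.FiniteType k R] : IsArtinian R M ↔ ∃ (t : ℕ) (sh : Fin t → ℤ) (f : M →ₗ[R] (Fin t → D)),
      Function.Injective f ∧ ∀ (i : Fin t) (g : ℤ) (x : M), x ∈ ℳ g → f x i ∈ 𝒟 (g + sh i) := by
  classical
  constructor
  · intro hA
    let Idx := ℤ × (M →ₗ[k] k)
    choose F hF hFapply using fun p : Idx => exists_toDual (ℳ := ℳ) hβ p.1 p.2
    let K : Finset Idx → Submodule R M := fun s => s.inf fun p => LinearMap.ker (F p)
    obtain ⟨P, ⟨s, rfl⟩, hmin⟩ := IsArtinian.set_has_minimal (Set.range K) ⟨_, ∅, rfl⟩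
    have hmemK : ∀ (s : Finset Idx) x, x ∈ K s ↔ ∀ p ∈ s, F p x = 0 := fun s x => by
      simp [K, Submodule.mem_finsetInf]
    have hbot : ∀ x ∈ K s, x = 0 := by
      intro x hx
      by_contra hne
      obtain ⟨n, hn⟩ : ∃ n, cmp ℳ n x ≠ 0 := by
        by_contra h
        push_neg at h
        exact hne (eq_zero_of_cmp ℳ h)
      obtain ⟨lam, hlam⟩ := Module.Projective.exists_dual_ne_zero k hn
      refine hmin (K (insert (n, lam) s)) ⟨_, rfl⟩ (lt_of_le_not_ge
        (Finset.inf_mono (Finset.subset_insert _ _)) fun h => hlam ?_)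
      have h1 := (hmemK _ _).1 (h hx) (n, lam) (Finset.mem_insert_self _ _)
      have h2 := hFapply (n, lam) x 1
      rw [h1, map_zero, LinearMap.zero_apply, one_smul] at h2
      exact h2.symm
    let e := s.equivFin
    refine ⟨s.card, fun i => -(e.symm i).1.1, LinearMap.pi fun i => F (e.symm i).1, fun x y h => ?_,
      fun i g x hx => hF (e.symm i).1 g x hx⟩
    refine sub_eq_zero.1 (hbot _ ((hmemK s _).2 fun p hp => ?_))
    have h1 := congrFun h (e ⟨p, hp⟩)
    simp only [LinearMap.pi_apply, Equiv.symm_apply_apply] at h1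
    rw [map_sub, h1, sub_self]
  · rintro ⟨t, sh, f, hf, -⟩
    have : IsNoetherianRing R := Algebra.FiniteType.isNoetherianRing k R
    have : IsArtinian R D := isArtinian_dual hβ hpos (finiteDimensional_piece hpos h0 𝒜)
    exact isArtinian_of_injective f hf

end GrothLib.GrDual
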