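import Groth.Agent.Lib.GrDual.LocalDual
import Groth.Agent.Lib.GrDual.Embed
import Groth.Agent.Lib.Segre.RingCase
import Groth.Agent.Lib.Segre.Normalization

/-!
# *injective envelopes of the residue field, canonical modules and graded duals
-/

universe u

open DirectSum
open scoped TensorProduct

namespace GrothLib.GrDual

open _root_.GrLC (GMod IsGrHom IsStarInjHull quotGr homDeg)
open GrothLib.GrLC (cmp cmp_mem cmp_of_mem cmp_of_mem_ne gr_induction exists_sum_cmp eq_zero_of_cmp smul_mem'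
  cmp_smul_mem cmp_smul_of_mem)
open GrothLib.Segre (agr)

noncomputable section

variable {k : Type u} [Field k] {R : Type u} [CommRing R] [Algebra k R] {𝒜 : ℤ → Submodule k R} [GradedAlgebra 𝒜]
  {E : Type u} [AddCommGroup E] [Module R E] [Module k E] [IsScalarTower k R E] {𝓔 : ℤ → AddSubgroup E}
  [Decomposition 𝓔] [SetLike.GradedSMul 𝒜 𝓔]

/-- A *injective envelope of the residue field is a graded dual of the ring. -/
theorem exists_isGDual_hull [Nontrivial R] (hpos : ∀ n : ℤ, n < 0 → 𝒜 n = ⊥)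
    (h0 : 𝒜 0 = Submodule.span k {(1 : R)}) {m : HomogeneousIdeal 𝒜}
    (hm : m.toIdeal = Ideal.span (⋃ n ∈ Set.Ioi (0 : ℤ), (𝒜 n : Set R))) (hm1 : (1 : R) ∉ m.toIdeal)
    {e : (R ⧸ m.toIdeal) →ₗ[R] E} (he : IsStarInjHull 𝒜 (quotGr 𝒜 m) 𝓔 e) :
    ∃ β : E →ₗ[k] R →ₗ[k] k, GrSeg.IsGDual R (agr 𝒜) 𝓔 β := by
  classical
  have h1 : (1 : R) ∈ 𝒜 0 := SetLike.GradedOne.one_mem
  let u := e (Ideal.Quotient.mk _ (1 : R))
  have hu : u ∈ 𝓔 0 := he.grHom 0 _ ⟨1, h1, rfl⟩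
  have hu0 : u ≠ 0 := fun h => hm1 (Ideal.Quotient.eq_zero_iff_mem.1 (he.injective (h.trans (map_zero e).symm)))
  have hum : ∀ r ∈ m.toIdeal, r • u = 0 := fun r hr => by
    rw [← map_smul, show r • Ideal.Quotient.mk m.toIdeal (1 : R) = Ideal.Quotient.mk m.toIdeal (r * 1) from rfl,
      mul_one, Ideal.Quotient.eq_zero_iff_mem.2 hr, map_zero]
  have hur : ∀ r : R, ∃ c : k, r • u = c • u := by
    intro r
    induction r using gr_induction 𝒜 with
    | h0 => exact ⟨0, by rw [zero_smul, zero_smul]⟩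
    | hadd a b ha hb =>
      obtain ⟨p, hp⟩ := ha
      obtain ⟨q, hq⟩ := hb
      exact ⟨p + q, by rw [add_smul, hp, hq, add_smul]⟩
    | hh i r hr =>
      rcases lt_trichotomy i 0 with h | rfl | h
      · rw [hpos i h, Submodule.mem_bot] at hr
        exact ⟨0, by rw [hr, zero_smul, zero_smul]⟩
      · rw [h0] at hr
        obtain ⟨a, rfl⟩ := Submodule.mem_span_singleton.1 hr
        exact ⟨a, by rw [smul_assoc, one_smul]⟩
      · exact ⟨0, by rw [hum r (hm.ge (Ideal.subset_span (Set.mem_iUnion₂.2 ⟨i, h, hr⟩))), zero_smul]⟩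
  obtain ⟨lam, hlam⟩ := Module.Projective.exists_dual_ne_zero k hu0
  let ev : E →ₗ[k] k := lam ∘ₗ projK 𝒜 𝓔 0
  have hevu : ∀ c : k, ev (c • u) = c * lam u := fun c => by
    change lam (cmp 𝓔 0 (c • u)) = _
    rw [cmp_of_mem 𝓔 (smulk_mem (𝒜 := 𝒜) 𝓔 c hu), map_smul, smul_eq_mul]
  let β : E →ₗ[k] R →ₗ[k] k := LinearMap.mk₂ k (fun x a => ev (a • x))
    (fun x y a => by rw [smul_add, map_add]) (fun c x a => by rw [smul_comm, map_smul, smul_eq_mul])
    (fun x a b => by rw [add_smul, map_add]) (fun c x a => by rw [smul_assoc, map_smul, smul_eq_mul])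
  refine ⟨β, ⟨fun r x a => ?_, fun n x hx j hj a ha => ?_, fun n x hx h => ?_, fun n g => ?_⟩⟩
  · change ev (a • r • x) = ev ((r • a) • x)
    rw [smul_eq_mul, smul_smul, mul_comm]
  · change lam (cmp 𝓔 0 (a • x)) = 0
    have hax : a • x ∈ 𝓔 (j + n) := smul_mem' (𝒜 := 𝒜) 𝓔 ha hx
    rw [cmp_of_mem_ne 𝓔 hax (by omega), map_zero]
  · by_contra hx0
    have hP : (Submodule.span R {x}).IsHomogeneous 𝓔 := fun g y hy => by
      obtain ⟨r, rfl⟩ := Submodule.mem_span_singleton.1 hy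
      change cmp 𝓔 g (r • x) ∈ _
      rw [cmp_smul_mem (𝒜 := 𝒜) 𝓔 r hx]
      exact Submodule.smul_mem _ _ (Submodule.mem_span_singleton_self x)
    obtain ⟨y, ⟨hy1, ⟨v, hv⟩⟩, hy0⟩ := (Submodule.ne_bot_iff _).1
      (he.essential _ hP (fun h' => hx0 (Submodule.span_singleton_eq_bot.1 h')))
    obtain ⟨v, rfl⟩ := Ideal.Quotient.mk_surjective v
    obtain ⟨r, hr⟩ := Submodule.mem_span_singleton.1 hy1
    obtain ⟨c, hc⟩ := hur v
    have hyu : y = c • u := by
      rw [← hc, ← map_smul, ← hv]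
      exact congrArg e (congrArg (Ideal.Quotient.mk m.toIdeal) (mul_one v).symm)
    have hcu : cmp 𝓔 0 y = y := by rw [hyu, cmp_of_mem 𝓔 (smulk_mem (𝒜 := 𝒜) 𝓔 c hu)]
    rw [← hr, cmp_smul_mem (𝒜 := 𝒜) 𝓔 r hx, zero_sub] at hcu
    have h2 : ev (cmp 𝒜 (-n) r • x) = 0 := h _ (cmp_mem 𝒜 (-n) r)
    rw [hcu, hr, hyu, hevu] at h2
    rcases mul_eq_zero.1 h2 with hc0 | hl
    · exact hy0 (by rw [hyu, hc0, zero_smul])
    · exact hlam hl
  · let Nsub : Submodule R R :=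
      { carrier := {r | ∀ j < -n, cmp 𝒜 j r = 0}
        zero_mem' := fun j _ => map_zero _
        add_mem' := fun {a b} ha hb j hj => by rw [map_add, ha j hj, hb j hj, add_zero]
        smul_mem' := fun s r hr j hj => by
          induction s using gr_induction 𝒜 with
          | h0 => rw [zero_smul, map_zero]
          | hadd a b ha hb => rw [add_smul, map_add, ha, hb, add_zero]
          | hh i s hs =>
            rcases lt_or_ge i 0 with hi | hi
            · rw [hpos i hi, Submodule.mem_bot] at hs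
              rw [hs, zero_smul, map_zero]
            · rw [cmp_smul_of_mem (𝒜 := 𝒜) 𝒜 hs, hr _ (by omega), smul_zero] }
    let N' : Submodule R (GrothLib.GrLC.gmod 𝒜 𝒜).carrier := Nsub
    have hN : N'.IsHomogeneous (GrothLib.GrLC.gmod 𝒜 𝒜).gr := fun g r hr j hj => by
      have e' := GrothLib.GrLC.cmp_eq_proj (GrothLib.GrLC.gmod 𝒜 𝒜) (g := g) (cmp (M := R) 𝒜 g)
        (fun z hz => cmp_of_mem 𝒜 hz) (fun i hne z hz => cmp_of_mem_ne 𝒜 hz hne) r
      refine (congrArg (cmp (M := R) 𝒜 j) e').trans ?_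
      by_cases hjg : j = g
      · subst hjg; exact (cmp_of_mem (M := R) 𝒜 (cmp_mem (M := R) 𝒜 j r)).trans (hr j hj)
      · exact cmp_of_mem_ne (M := R) 𝒜 (cmp_mem (M := R) 𝒜 g r) (Ne.symm hjg)
    let f : Nsub →ₗ[R] E :=
      { toFun := fun r => (g (cmp 𝒜 (-n) r.1) / lam u) • u
        map_add' := fun a b => by rw [Submodule.coe_add, map_add, map_add, add_div, add_smul]
        map_smul' := fun s r => by
          rw [RingHom.id_apply, Submodule.coe_smul]
          induction s using gr_induction 𝒜 with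
          | h0 => simp
          | hadd a b ha hb => rw [add_smul, map_add, map_add, add_div, add_smul, ha, hb, add_smul]
          | hh i s hs =>
            rcases lt_trichotomy i 0 with hi | rfl | hi
            · rw [hpos i hi, Submodule.mem_bot] at hs
              simp [hs]
            · rw [h0] at hs
              obtain ⟨a, rfl⟩ := Submodule.mem_span_singleton.1 hs
              rw [smul_assoc, one_smul, ← projK_apply (𝒜 := 𝒜) 𝒜, map_smul, map_smul, smul_eq_mul, mul_div_assoc,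
                mul_smul, smul_assoc, one_smul, projK_apply]
            · rw [smul_comm, hum s (hm.ge (Ideal.subset_span (Set.mem_iUnion₂.2 ⟨i, hi, hs⟩))), smul_zero,
                cmp_smul_of_mem (𝒜 := 𝒜) 𝒜 hs, r.2 _ (by omega), smul_zero, map_zero, zero_div, zero_smul] }
    let X : GMod.{u} 𝒜 := GrothLib.GrLC.gmod 𝒜 𝓔
    have hX : _root_.GrLC.IsStarInj 𝒜 X.gr := fun A B φ hφ hinj ψ hψ => he.starInj A B φ hφ hinj ψ hψ
    obtain ⟨h, hh, hhf⟩ := GrothLib.GrLC.isStarInj_shift hX n (GrothLib.GrLC.sub (GrothLib.GrLC.gmod 𝒜 𝒜) N' hN)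
      (GrothLib.GrLC.gmod 𝒜 𝒜) Nsub.subtype (GrothLib.GrLC.isHom_subtype _ _ hN) (Submodule.subtype_injective _) f
      (fun j r hr => by
        change (g (cmp 𝒜 (-n) r.1) / lam u) • u ∈ 𝓔 (j + n)
        have hr' : (r.1 : R) ∈ 𝒜 j := hr
        by_cases hj : j = -n
        · rw [hj, neg_add_cancel]; exact smulk_mem (𝒜 := 𝒜) 𝓔 _ hu
        · rw [cmp_of_mem_ne (M := R) 𝒜 hr' hj, map_zero, zero_div, zero_smul]; exact zero_mem _)
    change R →ₗ[R] E at h
    refine ⟨h 1, ?_, fun a ha => ?_⟩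
    · have := hh 0 (1 : R) h1
      change h 1 ∈ 𝓔 (0 + n) at this
      rwa [zero_add] at this
    · have haN : a ∈ Nsub := fun j hj => cmp_of_mem_ne 𝒜 (show a ∈ 𝒜 (-n) from ha) (by omega)
      have h3 : h a = (g (cmp 𝒜 (-n) a) / lam u) • u := LinearMap.congr_fun hhf ⟨a, haN⟩
      change ev (a • h 1) = g a
      rw [← map_smul, smul_eq_mul, mul_one, h3, cmp_of_mem 𝒜 (show a ∈ 𝒜 (-n) from ha), hevu, div_mul_cancel₀ _ hlam]

variable {βE : E →ₗ[k] R →ₗ[k] k} (hE : GrSeg.IsGDual R (agr 𝒜) 𝓔 βE)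
  {M : Type u} [AddCommGroup M] [Module R M] [Module k M] [IsScalarTower k R M] {ℳ : ℤ → AddSubgroup M}
  [Decomposition ℳ] [SetLike.GradedSMul 𝒜 ℳ] [Module.Finite R M]

include hE

/-- A graded dual of a finite module is `Hom` into the envelope. -/
theorem exists_equiv_hom_of_isGDual {D : Type u} [AddCommGroup D] [Module R D] [Module k D] [IsScalarTower k R D]
    {𝒟 : ℤ → AddSubgroup D} [Decomposition 𝒟] {βD : D →ₗ[k] M →ₗ[k] k} (hD : GrSeg.IsGDual R ℳ 𝒟 βD) :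
    ∃ ε : D ≃ₗ[R] (M →ₗ[R] E), IsGrHom 𝒟 (fun d : ℤ => (homDeg 𝒜 ℳ 𝓔 d).toAddSubgroup) ε.toLinearMap := by
  classical
  let X := GrothLib.GrLC.gmod 𝒜 ℳ
  have : Module.Finite R X.carrier := ‹Module.Finite R M›
  obtain ⟨κ, _, deg, gen, hgen, hspan⟩ := GrothLib.GrLC.exists_homogeneous_generators X
  refine exists_equiv_hom hE hD (LinearMap.ringLmapEquivSelf R R M).symm.toLinearMap
    (fun j g x hx a ha => ?_) deg gen hgen hspan (fun y => ?_) fun z hz => ?_
  · change a • x ∈ ℳ (g + j)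
    exact smul_mem' (𝒜 := 𝒜) ℳ ha hx
  · obtain ⟨c, hc⟩ := (Submodule.mem_span_range_iff_exists_fun R).1 (hspan.ge (Submodule.mem_top (x := y)))
    exact ⟨c, hc.symm⟩
  · refine ⟨PUnit.{u + 1}, inferInstance, fun _ a => z a, fun _ => (1 : R), fun _ => ?_, fun a => ?_⟩
    · exact hz
    · rw [Fintype.sum_unique, smul_eq_mul, mul_one]

omit hE in
theorem homDeg_ext {f : M →ₗ[R] E} {d : ℤ} (hf : f ∈ homDeg 𝒜 ℳ 𝓔 d) {s : Finset ℤ} {c : ℤ → (M →ₗ[R] E)}
    (hc : ∀ j, c j ∈ homDeg 𝒜 ℳ 𝓔 j) (hs : f = ∑ j ∈ s, c j) {j : ℤ} (hj : j ∈ s) (hne : j ≠ d) : c j = 0 := by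
  classical
  refine LinearMap.ext fun x => ?_
  induction x using gr_induction ℳ with
  | h0 => simp
  | hadd a b ha hb => simp only [map_add, ha, hb]
  | hh i x hx =>
    have h : cmp 𝓔 (i + j) (f x) = c j x := by
      rw [hs, LinearMap.sum_apply, map_sum, Finset.sum_eq_single j (fun b _ hb => cmp_of_mem_ne 𝓔 (hc b i x hx)
        (by omega)) (fun h => absurd hj h), cmp_of_mem 𝓔 (hc j i x hx)]
    rw [← h, cmp_of_mem_ne 𝓔 (hf i x hx) (by omega), LinearMap.zero_apply]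

omit hE in
/-- An equivalence from a graded module onto the homomorphisms respects degrees backwards. -/
theorem symm_mem_of_mem_homDeg {D : Type u} [AddCommGroup D] [Module R D] {𝒟 : ℤ → AddSubgroup D}
    [Decomposition 𝒟] (ε : D ≃ₗ[R] (M →ₗ[R] E))
    (hε : IsGrHom 𝒟 (fun d : ℤ => (homDeg 𝒜 ℳ 𝓔 d).toAddSubgroup) ε.toLinearMap) {f : M →ₗ[R] E} {d : ℤ}
    (hf : f ∈ homDeg 𝒜 ℳ 𝓔 d) : ε.symm f ∈ 𝒟 d := by
  classical
  obtain ⟨s, hs⟩ := exists_sum_cmp 𝒟 (ε.symm f)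
  rw [hs]
  refine sum_mem fun j hj => ?_
  by_cases hne : j = d
  · subst hne; exact cmp_mem 𝒟 j _
  · have h0 := homDeg_ext hf (s := s) (c := fun i => ε (cmp 𝒟 i (ε.symm f)))
      (fun i => hε i _ (cmp_mem 𝒟 i _)) (by rw [← map_sum, ← hs, LinearEquiv.apply_symm_apply]) hj hne
    rw [ε.injective (h0.trans (map_zero ε).symm)]
    exact zero_mem _

omit [SetLike.GradedSMul 𝒜 ℳ] [Module.Finite R M] in
theorem isGDual_of_equiv_aux {H : Type u} [AddCommGroup H] [Module R H] [Module k H] [IsScalarTower k R H]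
    (Φ : (M →ₗ[R] E) ≃ₗ[R] H) : ∃ βH : H →ₗ[k] M →ₗ[k] k, ∀ h x, βH h x = βE (Φ.symm h x) 1 :=
  ⟨LinearMap.mk₂ k (fun h x => βE (Φ.symm h x) 1)
    (fun h h' x => by rw [map_add, LinearMap.add_apply, map_add, LinearMap.add_apply])
    (fun c h x => by
      rw [← algebraMap_smul R c h, map_smul, LinearMap.smul_apply, algebraMap_smul, map_smul, LinearMap.smul_apply])
    (fun h x y => by rw [map_add, map_add, LinearMap.add_apply])
    (fun c h x => by rw [LinearMap.map_smul_of_tower, map_smul, LinearMap.smul_apply]), fun _ _ => rfl⟩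

/-- If `Hom` into the envelope is `H`, then `H` is a graded dual. -/
theorem exists_isGDual_of_equiv {H : Type u} [AddCommGroup H] [Module R H] [Module k H] [IsScalarTower k R H]
    {ℋ : ℤ → AddSubgroup H} [Decomposition ℋ] (Φ : (M →ₗ[R] E) ≃ₗ[R] H)
    (hΦ : IsGrHom (fun d : ℤ => (homDeg 𝒜 ℳ 𝓔 d).toAddSubgroup) ℋ Φ.toLinearMap) :
    ∃ βH : H →ₗ[k] M →ₗ[k] k, GrSeg.IsGDual R ℳ ℋ βH := by
  classical
  obtain ⟨βH, hβ⟩ := isGDual_of_equiv_aux hE Φ
  have hback : ∀ n, ∀ h ∈ ℋ n, Φ.symm h ∈ homDeg 𝒜 ℳ 𝓔 n := by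
    intro n h hh
    let X := GrothLib.GrLC.gmod 𝒜 ℳ
    have : Module.Finite R X.carrier := ‹Module.Finite R M›
    obtain ⟨s, hs⟩ := GrothLib.GrLC.exists_sum_homCmp X (GrothLib.GrLC.gmod 𝒜 𝓔) (Φ.symm h)
    let c : ℤ → (M →ₗ[R] E) := fun j => GrothLib.GrLC.homCmp X (GrothLib.GrLC.gmod 𝒜 𝓔) (Φ.symm h) j
    have hc : ∀ j, c j ∈ homDeg 𝒜 ℳ 𝓔 j := fun j g x hx =>
      GrothLib.GrLC.isHom_homCmp X (GrothLib.GrLC.gmod 𝒜 𝓔) (Φ.symm h) j g x hx
    have hs' : Φ.symm h = ∑ j ∈ s, c j := hs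
    rw [hs']
    refine sum_mem fun j hj => ?_
    by_cases hne : j = n
    · subst hne; exact hc j
    · have h1 : cmp ℋ j (Φ (Φ.symm h)) = Φ (c j) := by
        rw [hs', map_sum, map_sum, Finset.sum_eq_single j (fun b _ hb => cmp_of_mem_ne ℋ (show Φ (c b) ∈ ℋ b from hΦ b _ (hc b)) hb)
          (fun h' => absurd hj h'), cmp_of_mem ℋ (show Φ (c j) ∈ ℋ j from hΦ j _ (hc j))]
      rw [LinearEquiv.apply_symm_apply, cmp_of_mem_ne ℋ hh (Ne.symm hne)] at h1
      rw [Φ.injective (h1.symm.trans (map_zero Φ).symm)]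
      exact zero_mem _
  refine ⟨βH, ⟨fun r h x => ?_, fun n h hh j hj x hx => ?_, fun n h hh h0' => ?_, fun n g => ?_⟩⟩
  · rw [hβ, hβ, map_smul Φ.symm, LinearMap.smul_apply, map_smul (Φ.symm h)]
  · rw [hβ]
    exact hE.vanish (j + n) _ (hback n h hh j x hx) 0 (by omega) 1 (show (1 : R) ∈ 𝒜 0 from SetLike.GradedOne.one_mem)
  · refine Φ.symm.injective ((LinearMap.ext fun x => ?_).trans (map_zero Φ.symm).symm)
    induction x using gr_induction ℳ with
    | h0 => simp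
    | hadd a b ha hb => simp only [map_add, ha, hb]
    | hh j x hx =>
      refine hE.eq_zero (j + n) _ (hback n h hh j x hx) fun a ha => ?_
      have h2 := h0' (a • x) (by
        have h3 : a • x ∈ ℳ (-(j + n) + j) := smul_mem' (𝒜 := 𝒜) ℳ (show a ∈ 𝒜 (-(j + n)) from ha) hx
        rwa [show -(j + n) + j = -n by ring] at h3)
      rw [hβ, map_smul, hE.map_smul, smul_eq_mul, mul_one] at h2
      exact h2
  · obtain ⟨f, hf, hf'⟩ := exists_toDual (𝒜 := 𝒜) (ℳ := ℳ) (β := βE) ⟨hE.map_smul, hE.vanish, hE.eq_zero, hE.exists_eq⟩ (-n) g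
    refine ⟨Φ f, hΦ n f fun i x hx => ?_, fun x hx => ?_⟩
    · have := hf i x hx
      rwa [neg_neg] at this
    · rw [hβ, LinearEquiv.symm_apply_apply, hf', one_smul, cmp_of_mem ℳ hx]

end

end GrothLib.GrDual

namespace GrothLib.GrDual

/-- The irrelevant ideal is proper. -/
theorem one_notMem_irrel {k : Type u} [Field k] {R : Type u} [CommRing R] [Algebra k R] [Nontrivial R]
    (𝒜 : ℤ → Submodule k R) [GradedAlgebra 𝒜] (hpos : ∀ n : ℤ, n < 0 → 𝒜 n = ⊥) {m : Ideal R}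
    (hm : m = Ideal.span (⋃ n ∈ Set.Ioi (0 : ℤ), (𝒜 n : Set R))) : (1 : R) ∉ m := fun h => by
  have := GrothLib.Segre.coe_decompose_zero_of_mem_irrel 𝒜 hpos (x := (1 : R))
    (show (1 : R) ∈ GrothLib.Segre.irrel 𝒜 from hm.le h)
  rw [DirectSum.decompose_of_mem_same 𝒜 SetLike.GradedOne.one_mem] at this
  exact one_ne_zero this

end GrothLib.GrDual
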