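import Groth.Agent.Lib.GrDual.Pairing

/-!
# The dual of the ring is a *injective envelope; minimal maps and *essential duals
-/

universe u

open DirectSum

namespace GrothLib.GrDual

open _root_.GrLC (IsGrHom IsStarEss GMod IsStarInj IsStarInjHull quotGr)
open GrothLib.GrLC (cmp cmp_mem cmp_of_mem cmp_of_mem_ne gr_induction eq_zero_of_cmp cmp_smul_of_mem cmp_smul_mem
  exists_sum_cmp smul_mem' map_cmp)

variable {k : Type u} [Field k] {R : Type u} [CommRing R] [Algebra k R] {𝒜 : ℤ → Submodule k R} [GradedAlgebra 𝒜]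
  {D : Type u} [AddCommGroup D] [Module R D] [Module k D] [IsScalarTower k R D] {𝒟 : ℤ → AddSubgroup D}
  [Decomposition 𝒟] [SetLike.GradedSMul 𝒜 𝒟]

theorem isStarInj_dual {β : D →ₗ[k] R →ₗ[k] k} (hβ : GrSeg.IsGDual R 𝒜 𝒟 β) : IsStarInj 𝒜 𝒟 := by
  intro A B f hf hinj g hg
  letI : Module k A.carrier := Module.compHom _ (algebraMap k R)
  letI : Module k B.carrier := Module.compHom _ (algebraMap k R)
  have : IsScalarTower k R A.carrier := ⟨fun c r x => by rw [Algebra.smul_def, mul_smul]; rfl⟩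
  have : IsScalarTower k R B.carrier := ⟨fun c r x => by rw [Algebra.smul_def, mul_smul]; rfl⟩
  have h1 : (1 : R) ∈ 𝒜 0 := SetLike.GradedOne.one_mem
  let μ : A.carrier →ₗ[k] k := (β.flip (1 : R)) ∘ₗ g.restrictScalars k
  have hμ : ∀ a, μ a = μ (cmp A.gr 0 a) := fun a => by
    change β (g a) 1 = β (g (cmp A.gr 0 a)) 1
    rw [map_cmp hg, cmp_apply hβ (g a) (show (1 : R) ∈ 𝒜 (-0) by rwa [neg_zero])]
  obtain ⟨s, hs⟩ := (f.restrictScalars k).exists_leftInverse_of_injective (LinearMap.ker_eq_bot.2 hinj)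
  let ν : B.carrier →ₗ[k] k := (μ ∘ₗ s) ∘ₗ projK 𝒜 B.gr 0
  have hν : ∀ a, ν (f a) = μ a := fun a => by
    change μ (s (cmp B.gr 0 (f a))) = μ a
    rw [← map_cmp hf, show s (f (cmp A.gr 0 a)) = cmp A.gr 0 a from LinearMap.congr_fun hs _, ← hμ]
  have hex : ∀ b, ∃ d, ∀ x : R, β d x = ν (x • b) := by
    intro b
    induction b using gr_induction B.gr with
    | h0 => exact ⟨0, fun x => by simp⟩
    | hh n b hb =>
      obtain ⟨d, -, hd'⟩ := exists_dual hβ n (ν ∘ₗ (LinearMap.toSpanSingleton R B.carrier b).restrictScalars k)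
      refine ⟨d, fun x => ?_⟩
      rw [hd' x]
      change μ (s (cmp B.gr 0 (cmp 𝒜 (-n) x • b))) = μ (s (cmp B.gr 0 (x • b)))
      rw [cmp_smul_mem (𝒜 := 𝒜) B.gr x hb, cmp_smul_mem (𝒜 := 𝒜) B.gr (cmp 𝒜 (-n) x) hb, zero_sub,
        cmp_of_mem 𝒜 (cmp_mem 𝒜 _ x)]
    | hadd u v hu hv =>
      obtain ⟨d, hd⟩ := hu
      obtain ⟨e, he⟩ := hv
      exact ⟨d + e, fun x => by rw [map_add, LinearMap.add_apply, hd, he, smul_add, map_add]⟩
  choose h hh using hex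
  refine ⟨{ toFun := h, map_add' := ?_, map_smul' := ?_ }, ?_, ?_⟩
  · exact fun u v => ext_dual hβ fun x => by rw [map_add, LinearMap.add_apply, hh, hh, hh, smul_add, map_add]
  · exact fun r u => ext_dual hβ fun x => by
      rw [RingHom.id_apply, hβ.map_smul, hh, hh, smul_eq_mul, mul_comm, mul_smul]
  · intro n b hb
    change h b ∈ 𝒟 n
    have e : h b = cmp 𝒟 n (h b) := ext_dual hβ fun x => by
      rw [apply_of_mem hβ (cmp_mem 𝒟 n _) x, cmp_apply hβ _ (cmp_mem 𝒜 _ x), hh, hh]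
      change μ (s (cmp B.gr 0 (x • b))) = μ (s (cmp B.gr 0 (cmp 𝒜 (-n) x • b)))
      rw [cmp_smul_mem (𝒜 := 𝒜) B.gr x hb, cmp_smul_mem (𝒜 := 𝒜) B.gr (cmp 𝒜 (-n) x) hb, zero_sub,
        cmp_of_mem 𝒜 (cmp_mem 𝒜 _ x)]
    rw [e]
    exact cmp_mem 𝒟 n _
  · refine LinearMap.ext fun a => ext_dual hβ fun x => ?_
    change β (h (f a)) x = β (g a) x
    rw [hh, ← map_smul, hν]
    change β (g (x • a)) 1 = _
    rw [map_smul, hβ.map_smul, smul_eq_mul, mul_one]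

theorem isStarEss_dual {β : D →ₗ[k] R →ₗ[k] k} (hβ : GrSeg.IsGDual R 𝒜 𝒟 β) (h0 : 𝒜 0 = Submodule.span k {(1 : R)})
    {m : HomogeneousIdeal 𝒜} (hm : (1 : R) ∉ m.toIdeal) {e : (R ⧸ m.toIdeal) →ₗ[R] D} (he : Function.Injective e)
    (hegr : IsGrHom (quotGr 𝒜 m) 𝒟 e) : IsStarEss (quotGr 𝒜 m) 𝒟 e := by
  refine ⟨he, hegr, fun P hP hne => ?_⟩
  obtain ⟨d₀, hd₀, hd₀0⟩ := P.ne_bot_iff.1 hne
  obtain ⟨n, hn⟩ : ∃ n, cmp 𝒟 n d₀ ≠ 0 := by
    by_contra h
    push_neg at h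
    exact hd₀0 (eq_zero_of_cmp 𝒟 h)
  obtain ⟨x, hx, hx0⟩ : ∃ x ∈ 𝒜 (-n), β (cmp 𝒟 n d₀) x ≠ 0 := by
    by_contra h
    push_neg at h
    exact hn (hβ.eq_zero n _ (cmp_mem 𝒟 n d₀) h)
  let d := x • cmp 𝒟 n d₀
  have hd : d ∈ 𝒟 0 := by
    have := smul_mem' 𝒟 hx (cmp_mem 𝒟 n d₀)
    rwa [neg_add_cancel] at this
  have hd1 : β d 1 ≠ 0 := by rwa [hβ.map_smul, smul_eq_mul, mul_one]
  let u := e (Ideal.Quotient.mk _ (1 : R))
  have hu : u ∈ 𝒟 0 := hegr 0 _ ⟨1, (SetLike.GradedOne.one_mem : (1 : R) ∈ 𝒜 0), rfl⟩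
  have hu0 : u ≠ 0 := fun h => hm (Ideal.Quotient.eq_zero_iff_mem.1 (he (h.trans (map_zero e).symm)))
  have hdet : ∀ v ∈ 𝒟 0, β v 1 = 0 → v = 0 := fun v hv h1 => hβ.eq_zero 0 v hv fun y hy => by
    rw [neg_zero, h0] at hy
    obtain ⟨c, rfl⟩ := Submodule.mem_span_singleton.1 hy
    rw [map_smul, h1, smul_zero]
  have hu1 : β u 1 ≠ 0 := fun h => hu0 (hdet u hu h)
  have hdu : d = algebraMap k R (β d 1 / β u 1) • u := by
    rw [algebraMap_smul]
    refine sub_eq_zero.1 (hdet _ (sub_mem hd (smulk_mem (𝒜 := 𝒜) 𝒟 _ hu)) ?_)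
    rw [map_sub, LinearMap.sub_apply, β.map_smul, LinearMap.smul_apply, smul_eq_mul, div_mul_cancel₀ _ hu1, sub_self]
  exact (Submodule.ne_bot_iff _).2 ⟨d, ⟨P.smul_mem x (hP n hd₀), hdu ▸ Submodule.smul_mem _ _ ⟨_, rfl⟩⟩,
    fun h => hd1 (by rw [h, map_zero, LinearMap.zero_apply])⟩

section Minimal

variable {F : Type u} [AddCommGroup F] [Module R F] [Module k F] [IsScalarTower k R F] {ℱ : ℤ → AddSubgroup F}
  [Decomposition ℱ] [SetLike.GradedSMul 𝒜 ℱ] [Module.Finite R F]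
  {M : Type u} [AddCommGroup M] [Module R M] [Module k M] [IsScalarTower k R M] {ℳ : ℤ → AddSubgroup M}
  [Decomposition ℳ]
  {E : Type u} [AddCommGroup E] [Module R E] [Module k E] [IsScalarTower k R E] {ℰ : ℤ → AddSubgroup E}
  [Decomposition ℰ] [SetLike.GradedSMul 𝒜 ℰ]

theorem minimal_iff_ess (hpos : ∀ n : ℤ, n < 0 → 𝒜 n = ⊥) (h0 : 𝒜 0 = Submodule.span k {(1 : R)})
    {mR : HomogeneousIdeal 𝒜} (hmR : mR.toIdeal = Ideal.span (⋃ n ∈ Set.Ioi (0 : ℤ), (𝒜 n : Set R)))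
    (f : F →ₗ[R] M) (hf : Function.Surjective f) (hfgr : IsGrHom ℱ ℳ f)
    {βM : D →ₗ[k] M →ₗ[k] k} (hM : GrSeg.IsGDual R ℳ 𝒟 βM) {βF : E →ₗ[k] F →ₗ[k] k}
    (hF : GrSeg.IsGDual R ℱ ℰ βF) {g : D →ₗ[R] E} (hg : GrSeg.IsGDualMap βM βF f g) :
    LinearMap.ker f ≤ mR.toIdeal • (⊤ : Submodule R F) ↔ IsStarEss 𝒟 ℰ g := by
  have hinj : Function.Injective g := fun d d' h => ext_dual hM fun y => by
    obtain ⟨x, rfl⟩ := hf y
    rw [← hg, ← hg, h]
  have hgr : IsGrHom 𝒟 ℰ g := fun n d hd => by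
    have e : g d = cmp ℰ n (g d) := ext_dual hF fun x => by
      rw [apply_of_mem hF (cmp_mem ℰ n _) x, cmp_apply hF _ (cmp_mem ℱ _ x), hg, hg, apply_of_mem hM hd (f x),
        map_cmp hfgr]
    rw [e]
    exact cmp_mem ℰ n _
  have hposmem : ∀ (i : ℤ), 0 < i → ∀ r ∈ 𝒜 i, r ∈ mR.toIdeal := fun i hi r hr =>
    hmR ▸ Ideal.subset_span (Set.mem_biUnion (Set.mem_Ioi.2 hi) hr)
  have hscalar : ∀ (e : E), (∀ i : ℤ, 0 < i → ∀ r ∈ 𝒜 i, r • e = 0) → ∀ c : R, ∃ a : k, c • e = a • e := by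
    intro e he c
    induction c using gr_induction 𝒜 with
    | h0 => exact ⟨0, by rw [zero_smul, zero_smul]⟩
    | hh i r hr =>
      rcases lt_trichotomy i 0 with h | rfl | h
      · rw [hpos i h, Submodule.mem_bot] at hr
        exact ⟨0, by rw [hr, zero_smul, zero_smul]⟩
      · rw [h0] at hr
        obtain ⟨a, rfl⟩ := Submodule.mem_span_singleton.1 hr
        exact ⟨a, by rw [smul_assoc, one_smul]⟩
      · exact ⟨0, by rw [he i h r hr, zero_smul]⟩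
    | hadd u v hu hv =>
      obtain ⟨a, ha⟩ := hu
      obtain ⟨b, hb⟩ := hv
      exact ⟨a + b, by rw [add_smul, ha, hb, add_smul]⟩
  constructor
  · intro hle
    refine ⟨hinj, hgr, fun P hP hne => ?_⟩
    obtain ⟨b, hb⟩ := exists_lower (𝒜 := 𝒜) ℱ hpos
    have hbd : ∀ n, ∀ e ∈ ℰ n, e ≠ 0 → n ≤ -b := fun n e he hne0 => by
      by_contra hlt
      exact hne0 (hF.eq_zero n e he fun x hx => by rw [hb (-n) (by omega) x hx, map_zero])
    obtain ⟨e₀, he₀, he₀0⟩ := P.ne_bot_iff.1 hne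
    obtain ⟨n₀, hn₀⟩ : ∃ n, cmp ℰ n e₀ ≠ 0 := by
      by_contra h
      push_neg at h
      exact he₀0 (eq_zero_of_cmp ℰ h)
    obtain ⟨n, ⟨e, heP, hen, hne'⟩, hmax⟩ := Int.exists_greatest_of_bdd
      (P := fun n => ∃ e ∈ P, e ∈ ℰ n ∧ e ≠ 0) ⟨-b, fun n ⟨e, _, he, h⟩ => hbd n e he h⟩
      ⟨n₀, _, hP n₀ he₀, cmp_mem ℰ n₀ e₀, hn₀⟩
    have hkill : ∀ i : ℤ, 0 < i → ∀ r ∈ 𝒜 i, r • e = 0 := fun i hi r hr => by
      by_contra h
      have := hmax (i + n) ⟨r • e, P.smul_mem r heP, smul_mem' ℰ hr hen, h⟩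
      omega
    have hker : ∀ x ∈ mR.toIdeal • (⊤ : Submodule R F), βF e x = 0 := by
      intro x hx
      refine Submodule.smul_induction_on hx (fun r hr y _ => ?_) fun u v hu hv => by rw [map_add, hu, hv, add_zero]
      rw [← hF.map_smul]
      suffices r • e = 0 by rw [this, map_zero, LinearMap.zero_apply]
      rw [hmR] at hr
      induction hr using Submodule.span_induction with
      | mem s hs =>
        obtain ⟨i, hi, hs⟩ := Set.mem_iUnion₂.1 hs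
        exact hkill i hi s hs
      | zero => rw [zero_smul]
      | add u v _ _ hu hv => rw [add_smul, hu, hv, add_zero]
      | smul c u _ hu => rw [smul_eq_mul, mul_smul, hu, smul_zero]
    obtain ⟨s, hs⟩ := (f.restrictScalars k).exists_rightInverse_of_surjective (LinearMap.range_eq_top.2 hf)
    obtain ⟨d, hdn, hd⟩ := exists_dual hM n ((βF e) ∘ₗ s)
    have hgd : g d = e := ext_dual hF fun x => by
      rw [hg, hd, apply_of_mem hF hen x, ← map_cmp hfgr]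
      change βF e (s (f (cmp ℱ (-n) x))) = _
      refine sub_eq_zero.1 ?_
      rw [← map_sub]
      refine hker _ (hle ?_)
      rw [LinearMap.mem_ker, map_sub,
        show f (s (f (cmp ℱ (-n) x))) = f (cmp ℱ (-n) x) from LinearMap.congr_fun hs _, sub_self]
    exact (Submodule.ne_bot_iff _).2 ⟨e, ⟨heP, d, hgd⟩, hne'⟩
  · intro hess z hz
    obtain ⟨S, hS⟩ := exists_sum_cmp ℱ z
    rw [hS]
    refine sum_mem fun n _ => ?_
    by_contra hnot
    let N : Submodule k F := (mR.toIdeal • (⊤ : Submodule R F)).restrictScalars k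
    obtain ⟨lam, hlam, hlamN⟩ := Submodule.exists_dual_map_eq_bot_of_notMem (p := N) hnot inferInstance
    have hvan : ∀ x ∈ mR.toIdeal • (⊤ : Submodule R F), lam x = 0 := fun x hx =>
      (Submodule.mem_bot k).1 (hlamN ▸ Submodule.mem_map_of_mem (show x ∈ N from hx))
    obtain ⟨e, hen, he⟩ := exists_dual hF (-n) lam
    rw [neg_neg] at he
    have hkill : ∀ i : ℤ, 0 < i → ∀ r ∈ 𝒜 i, r • e = 0 := fun i hi r hr => ext_dual hF fun x => by
      rw [hF.map_smul, he, map_zero, LinearMap.zero_apply, cmp_smul_of_mem ℱ hr]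
      exact hvan _ (Submodule.smul_mem_smul (hposmem i hi r hr) Submodule.mem_top)
    have he0 : e ≠ 0 := fun h => hlam (by rw [← he, h, map_zero, LinearMap.zero_apply])
    have hP : (Submodule.span R {e}).IsHomogeneous ℰ := fun j v hv => by
      obtain ⟨c, rfl⟩ := Submodule.mem_span_singleton.1 hv
      change cmp ℰ j (c • e) ∈ Submodule.span R {e}
      rw [cmp_smul_mem (𝒜 := 𝒜) ℰ c hen]
      exact Submodule.smul_mem _ _ (Submodule.mem_span_singleton_self e)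
    obtain ⟨v, ⟨hv, d, rfl⟩, hv0⟩ := (Submodule.ne_bot_iff _).1 (hess.essential _ hP
      (fun h => he0 ((Submodule.eq_bot_iff _).1 h e (Submodule.mem_span_singleton_self e))))
    obtain ⟨c, hc⟩ := Submodule.mem_span_singleton.1 hv
    obtain ⟨a, ha⟩ := hscalar e hkill c
    have hzn : f (cmp ℱ n z) = 0 := by rw [map_cmp hfgr, show f z = 0 from hz, map_zero]
    have h1 : βF (g d) (cmp ℱ n z) = 0 := by rw [hg, hzn, map_zero]
    rw [← hc, ha, map_smul, LinearMap.smul_apply, he, cmp_of_mem ℱ (cmp_mem ℱ n z), smul_eq_mul] at h1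
    rcases mul_eq_zero.1 h1 with h | h
    · exact hv0 (by rw [← hc, ha, h, zero_smul])
    · exact hlam h

end Minimal

end GrothLib.GrDual
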