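import Groth.Agent.Lib.GrDual.Canonical
import Groth.Agent.Lib.GrDual.Artin
import Groth.Agent.Lib.GrLC.CanonLoc
import Groth.Agent.Lib.GrLC.ExtVanish
import Groth.Agent.Lib.GrLC.MaxHull
import Groth.Agent.Lib.LC.TopNonzero
import Groth.Agent.Lib.Segre.SegMod

/-!
# Existence of graded duals, *injective envelopes of the residue field and *canonical modules
-/

universe u

open CategoryTheory DirectSum
open scoped TensorProduct

namespace GrothLib.GrLC

open _root_.GrLC (GMod IsStarInjHull quotGr StarInjRes)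

noncomputable section

/-- The *injective envelope of the residue ring of a homogeneous ideal. -/
theorem exists_quot_hull {ι : Type} [AddCommGroup ι] [DecidableEq ι] {R : Type u} [CommRing R] {σ : Type u}
    [SetLike σ R] [AddSubgroupClass σ R] {𝒜 : ι → σ} [GradedRing 𝒜] (m : HomogeneousIdeal 𝒜) :
    ∃ (E : GMod.{u} 𝒜) (e : (R ⧸ m.toIdeal) →ₗ[R] E.carrier), IsStarInjHull 𝒜 (quotGr 𝒜 m) E.gr e := by
  let P : Submodule R (gmod 𝒜 𝒜).carrier := m.toIdeal
  have hP : P.IsHomogeneous (gmod 𝒜 𝒜).gr := fun g r hr => by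
    have e := cmp_eq_proj (gmod 𝒜 𝒜) (g := g) (cmp (M := R) 𝒜 g) (fun y hy => cmp_of_mem 𝒜 hy)
      (fun h hne y hy => cmp_of_mem_ne 𝒜 hy hne) r
    exact (congrArg (· ∈ (m.toIdeal : Submodule R R)) e).mpr (m.isHomogeneous g hr)
  obtain ⟨E, f, hf⟩ := exists_hull (quot (gmod 𝒜 𝒜) P hP)
  exact ⟨E, f, ⟨⟨hf.injective, fun g x hx => hf.grHom g x hx, hf.essential⟩, hf.starInj⟩⟩

variable {R : Type u} [CommRing R] [IsNoetherianRing R]

/-- Local cohomology of the ring at a maximal ideal is Artinian. -/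
theorem isArtinian_H_isMaximal (m : Ideal R) [m.IsMaximal] (i : ℕ) : IsArtinian R (LocCoh.H m i R) := by
  let A := Localization.AtPrime m
  obtain ⟨bc⟩ := GrothLib.LC.nonempty_baseChange_equiv (R' := A) (I := m) i R
  rw [Localization.AtPrime.map_eq_maximalIdeal] at bc
  haveI := GrothLib.LC.isArtinian_H_maximal (R := A) i (A ⊗[R] R)
  haveI : IsArtinian A (A ⊗[R] LocCoh.H m i R) := isArtinian_of_linearEquiv bc.symm
  let f : Submodule R (LocCoh.H m i R) → Submodule A (A ⊗[R] LocCoh.H m i R) := fun N => N.baseChange A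
  have hb := bijective_one_tmul m (GrothLib.LC.isPowerTorsion m i (ModuleCat.of R R))
  have hmem : ∀ (N : Submodule R (LocCoh.H m i R)), ∀ z ∈ N.baseChange A, ∃ x ∈ N, z = (1 : A) ⊗ₜ[R] x := by
    intro N z hz
    rw [Submodule.baseChange_eq_span] at hz
    induction hz using Submodule.span_induction with
    | mem z hz => obtain ⟨x, hx, rfl⟩ := hz; exact ⟨x, hx, rfl⟩
    | zero => exact ⟨0, zero_mem _, (TensorProduct.tmul_zero _ _).symm⟩
    | add a b _ _ ha hb =>
      obtain ⟨x, hx, rfl⟩ := ha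
      obtain ⟨y, hy, rfl⟩ := hb
      exact ⟨x + y, add_mem hx hy, (TensorProduct.tmul_add _ _ _).symm⟩
    | smul c a _ ha =>
      obtain ⟨x, hx, rfl⟩ := ha
      obtain ⟨y, hy⟩ := bijective_one_tmul m (H := N)
        (fun z => (GrothLib.LC.isPowerTorsion m i (ModuleCat.of R R) z.1).imp fun n hn r hr => Subtype.ext (hn r hr))
        |>.2 (c ⊗ₜ[R] (⟨x, hx⟩ : N))
      refine ⟨y, y.2, ?_⟩
      have := congrArg (N.subtype.baseChange A) hy
      simp only [LinearMap.baseChange_tmul, Submodule.coe_subtype] at this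
      rw [TensorProduct.smul_tmul', smul_eq_mul, mul_one, this]
  rw [isArtinian_iff]
  refine Subrelation.wf (r := InvImage (· < ·) f) (fun {V W} h => ?_) (InvImage.wf f wellFounded_lt)
  refine lt_of_le_not_ge ?_ fun h' => h.not_ge fun x hx => ?_
  · simp only [f, Submodule.baseChange_eq_span]
    exact Submodule.span_mono (Submodule.map_mono h.le)
  obtain ⟨y, hy, hxy⟩ := hmem V _ (h' (Submodule.tmul_mem_baseChange_of_mem 1 hx))
  rwa [hb.1 hxy]

end

end GrothLib.GrLC

namespace GrothLib.GrDual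

open _root_.GrLC (GMod IsGrHom IsStarInjHull quotGr homDeg StarInjRes IsStarCanonical)
open GrothLib.GrLC (cmp cmp_mem cmp_of_mem cmp_of_mem_ne gr_induction exists_sum_cmp eq_zero_of_cmp smul_mem'
  cmp_smul_mem cmp_smul_of_mem gmod EH)
open GrothLib.Segre (agr)

noncomputable section

variable {k : Type u} [Field k] {R : Type u} [CommRing R] [Algebra k R] {𝒜 : ℤ → Submodule k R} [GradedAlgebra 𝒜]
  {H : Type u} [AddCommGroup H] [Module R H] [Module k H] [IsScalarTower k R H] (ℋ : ℤ → AddSubgroup H)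

variable (k H) in
/-- functionals supported in finitely many degrees -/
def gdualSub : Submodule k (H →ₗ[k] k) where
  carrier := {f | ∃ s : Finset ℤ, ∀ g ∉ s, ∀ x ∈ ℋ g, f x = 0}
  add_mem' := fun {a b} ⟨s, hs⟩ ⟨t, ht⟩ => ⟨s ∪ t, fun g hg x hx => by
    rw [Finset.mem_union, not_or] at hg
    rw [LinearMap.add_apply, hs g hg.1 x hx, ht g hg.2 x hx, add_zero]⟩
  zero_mem' := ⟨∅, fun _ _ _ _ => rfl⟩
  smul_mem' c f := fun ⟨s, hs⟩ => ⟨s, fun g hg x hx => by rw [LinearMap.smul_apply, hs g hg x hx, smul_zero]⟩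

variable [Decomposition ℋ] [SetLike.GradedSMul 𝒜 ℋ]

include 𝒜 in
theorem comp_lsmul_mem (r : R) {f : H →ₗ[k] k} (hf : f ∈ gdualSub k H ℋ) :
    f ∘ₗ Algebra.lsmul k k H r ∈ gdualSub k H ℋ := by
  classical
  induction r using gr_induction 𝒜 with
  | h0 => rw [map_zero, LinearMap.comp_zero]; exact zero_mem _
  | hadd a b ha hb => rw [map_add, LinearMap.comp_add]; exact add_mem ha hb
  | hh i r hr =>
    obtain ⟨s, hs⟩ := hf
    refine ⟨s.image (· - i), fun g hg x hx => hs (i + g) (fun hmem => hg ?_) _ (smul_mem' (𝒜 := 𝒜) ℋ hr hx)⟩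
    exact Finset.mem_image.2 ⟨i + g, hmem, by ring⟩

include 𝒜 in
/-- Every graded module over a field-graded algebra has a graded dual. -/
theorem exists_gdual :
    ∃ (D : GMod.{u} 𝒜) (_ : Module k D.carrier) (_ : IsScalarTower k R D.carrier)
      (β : D.carrier →ₗ[k] H →ₗ[k] k), GrSeg.IsGDual R ℋ D.gr β := by
  classical
  letI : SMul R (gdualSub k H ℋ) := ⟨fun r f => ⟨f.1 ∘ₗ Algebra.lsmul k k H r, comp_lsmul_mem (𝒜 := 𝒜) ℋ r f.2⟩⟩
  have hval : ∀ (r : R) (f : gdualSub k H ℋ) (x : H), (r • f).1 x = f.1 (r • x) := fun _ _ _ => rfl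
  letI : Module R (gdualSub k H ℋ) :=
    { one_smul := fun f => Subtype.ext (LinearMap.ext fun x => by rw [hval, one_smul])
      mul_smul := fun r s f => Subtype.ext (LinearMap.ext fun x => by rw [hval, hval, hval, smul_smul, mul_comm])
      smul_zero := fun r => Subtype.ext (LinearMap.ext fun x => rfl)
      smul_add := fun r f g => Subtype.ext (LinearMap.ext fun x => rfl)
      add_smul := fun r s f => Subtype.ext (LinearMap.ext fun x => by
        rw [hval, add_smul, map_add]; rfl)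
      zero_smul := fun f => Subtype.ext (LinearMap.ext fun x => by rw [hval, zero_smul, map_zero]; rfl) }
  haveI : IsScalarTower k R (gdualSub k H ℋ) := ⟨fun c r f => Subtype.ext (LinearMap.ext fun x => by
    rw [hval, smul_assoc, map_smul]; rfl)⟩
  let P : ℤ → AddSubgroup (gdualSub k H ℋ) := fun n =>
    { carrier := {f | ∀ g, g ≠ -n → ∀ x ∈ ℋ g, f.1 x = 0}
      add_mem' := fun {a b} ha hb g hg x hx => by
        rw [Submodule.coe_add, LinearMap.add_apply, ha g hg x hx, hb g hg x hx, add_zero]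
      zero_mem' := fun _ _ _ _ => rfl
      neg_mem' := fun {a} ha g hg x hx => by rw [Submodule.coe_neg, LinearMap.neg_apply, ha g hg x hx, neg_zero] }
  let p : ℤ → gdualSub k H ℋ →+ gdualSub k H ℋ := fun n =>
    AddMonoidHom.mk' (fun f => ⟨f.1 ∘ₗ projK 𝒜 ℋ (-n), ⟨{-n}, fun g hg x hx => by
      rw [LinearMap.comp_apply, projK_apply, cmp_of_mem_ne ℋ hx (Finset.notMem_singleton.1 hg), map_zero]⟩⟩)
      fun a b => Subtype.ext (LinearMap.add_comp _ _ _)
  have hint : DirectSum.IsInternal P := GrothLib.GrLC.isInternal_of_proj P p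
    (fun n f hf => Subtype.ext (LinearMap.ext fun x => by
      induction x using gr_induction ℋ with
      | h0 => simp
      | hadd a b ha hb => rw [map_add, map_add, ha, hb]
      | hh j x hx =>
        change f.1 (cmp ℋ (-n) x) = f.1 x
        by_cases hj : j = -n
        · subst hj; rw [cmp_of_mem ℋ hx]
        · rw [cmp_of_mem_ne ℋ hx hj, map_zero, hf j hj x hx]))
    (fun n j hne f hf => Subtype.ext (LinearMap.ext fun x =>
      hf (-n) (fun h => hne (neg_injective h).symm) _ (cmp_mem ℋ _ x)))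
    (fun n f g hg x hx => by
      change f.1 (cmp ℋ (-n) x) = 0
      rw [cmp_of_mem_ne ℋ hx hg, map_zero])
    (fun f => by
      obtain ⟨s, hs⟩ := f.2
      refine ⟨s.image Neg.neg, Subtype.ext (LinearMap.ext fun x => ?_)⟩
      rw [AddSubmonoidClass.coe_finsetSum, LinearMap.sum_apply,
        Finset.sum_image fun a _ b _ h => neg_injective h]
      change f.1 x = ∑ g ∈ s, f.1 (cmp ℋ (- -g) x)
      simp only [neg_neg]
      induction x using gr_induction ℋ with
      | h0 => simp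
      | hadd a b ha hb => simp only [map_add, Finset.sum_add_distrib, ← ha, ← hb]
      | hh j x hx =>
        by_cases hj : j ∈ s
        · rw [Finset.sum_eq_single j (fun b _ hb => by rw [cmp_of_mem_ne ℋ hx (Ne.symm hb), map_zero])
            (fun h => absurd hj h), cmp_of_mem ℋ hx]
        · rw [hs j hj x hx, Finset.sum_eq_zero fun b hb => by
            rw [cmp_of_mem_ne ℋ hx (fun h => hj (h ▸ hb)), map_zero]])
  let D : GMod.{u} 𝒜 := GrothLib.GrLC.mkGMod (gdualSub k H ℋ) P hint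
    fun i g r hr f hf j hj x hx => by
      rw [hval]
      exact hf (i + j) (by omega) _ (smul_mem' (𝒜 := 𝒜) ℋ hr hx)
  letI : Module k D.carrier := inferInstanceAs (Module k (gdualSub k H ℋ))
  refine ⟨D, inferInstanceAs (Module k (gdualSub k H ℋ)), inferInstanceAs (IsScalarTower k R (gdualSub k H ℋ)),
    (gdualSub k H ℋ).subtype, ⟨fun r f x => rfl, fun n f hf => hf, fun n f hf h => Subtype.ext (LinearMap.ext fun x => ?_),
      fun n g => ?_⟩⟩
  · induction x using gr_induction ℋ with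
    | h0 => exact map_zero _
    | hadd a b ha hb => rw [map_add, map_add, ha, hb]
    | hh j x hx =>
      by_cases hj : j = -n
      · subst hj; exact h x hx
      · exact hf j hj x hx
  · refine ⟨⟨g ∘ₗ projK 𝒜 ℋ (-n), ⟨{-n}, fun j hj x hx => ?_⟩⟩, fun j hj x hx => ?_, fun x hx => ?_⟩
    · rw [LinearMap.comp_apply, projK_apply, cmp_of_mem_ne ℋ hx (Finset.notMem_singleton.1 hj), map_zero]
    · change g (cmp ℋ (-n) x) = 0
      rw [cmp_of_mem_ne ℋ hx hj, map_zero]
    · change g (cmp ℋ (-n) x) = g x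
      rw [cmp_of_mem ℋ hx]

end

noncomputable section

open scoped GrothLib.Segre

variable {k : Type u} [Field k] {R : Type u} [CommRing R] [Algebra k R] [Algebra.FiniteType k R]
  {𝒜 : ℤ → Submodule k R} [GradedAlgebra 𝒜]

variable (hpos : ∀ n : ℤ, n < 0 → 𝒜 n = ⊥) (h0 : 𝒜 0 = Submodule.span k {(1 : R)})
  {m : HomogeneousIdeal 𝒜} (hm : m.toIdeal = Ideal.span (⋃ n ∈ Set.Ioi (0 : ℤ), (𝒜 n : Set R)))
  [m.toIdeal.IsMaximal] {n : ℕ} (I : StarInjRes 𝒜 𝒜)

include hpos h0 hm in
/-- A *canonical module exists, and the top local cohomology is its graded dual. -/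
theorem exists_starCanonical :
    ∃ (E : GMod.{u} 𝒜) (e : (R ⧸ m.toIdeal) →ₗ[R] E.carrier) (C : GMod.{u} 𝒜),
      IsStarInjHull 𝒜 (quotGr 𝒜 m) E.gr e ∧ IsStarCanonical 𝒜 C.gr E.gr m n I ∧
      ∃ β : (EH I m n).carrier →ₗ[k] C.carrier →ₗ[k] k, GrSeg.IsGDual R C.gr (EH I m n).gr β := by
  have : IsNoetherianRing R := Algebra.FiniteType.isNoetherianRing k R
  have : Nontrivial R := Submodule.Quotient.nontrivial_iff.2 (Ideal.IsMaximal.ne_top ‹_›) |> fun _ =>
    (Ideal.Quotient.mk_surjective (I := m.toIdeal)).nontrivial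
  obtain ⟨E, e, he⟩ := GrothLib.GrLC.exists_quot_hull m
  obtain ⟨βE, hE⟩ := exists_isGDual_hull hpos h0 hm (one_notMem_irrel 𝒜 hpos hm) he
  haveI : IsArtinian R (EH I m n).carrier := by
    obtain ⟨ψ⟩ := GrothLib.GrLC.nonempty_EH_equiv I m n
    haveI := GrothLib.GrLC.isArtinian_H_isMaximal m.toIdeal n
    exact isArtinian_of_linearEquiv ψ.symm
  have hfin := finiteDimensional_piece_of_artinian (𝒜 := 𝒜) (ℳ := (EH I m n).gr) hpos h0
  obtain ⟨D, hkD, hkR, β, hβ⟩ := exists_gdual (k := k) (𝒜 := 𝒜) (EH I m n).gr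
  have : Module.Finite R D.carrier := finite_dual hβ hfin
  have hflip := isGDual_flip (𝒜 := 𝒜) hβ hfin
  obtain ⟨ε, hε⟩ := exists_equiv_hom_of_isGDual hE hflip
  have hkeq : hkD = GrothLib.Segre.kMod D := Module.ext (by
    funext c x
    letI := hkD
    haveI := hkR
    exact (algebraMap_smul (M := D.carrier) R c x).symm)
  subst hkeq
  refine ⟨E, e, D, he, ⟨inferInstance, ε.symm, fun d f hf => ?_⟩, β.flip, hflip⟩
  rw [GrothLib.GrLC.EH_gr_iff]
  exact symm_mem_of_mem_homDeg ε hε hf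

end

end GrothLib.GrDual
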