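import Groth.Agent.Lib.GrDual.Pairing
import Groth.Agent.Lib.GrLC.ExtVanish

/-!
# Graded duals of a right exact functor
-/

universe u

open DirectSum

namespace GrothLib.GrDual

open _root_.GrLC (IsGrHom GMod)
open GrothLib.GrLC (cmp cmp_mem cmp_of_mem cmp_of_mem_ne gr_induction exists_sum_cmp)

noncomputable section

variable {k : Type u} [Field k] {R : Type u} [CommRing R] [Algebra k R] {𝒜 : ℤ → Submodule k R} [GradedAlgebra 𝒜]
  {H : Type u} [AddCommGroup H] [Module R H] [Module k H] [IsScalarTower k R H] {ℋ : ℤ → AddSubgroup H}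
  [Decomposition ℋ]
  {HM : Type u} [AddCommGroup HM] [Module R HM] [Module k HM] [IsScalarTower k R HM] {ℋM : ℤ → AddSubgroup HM}
  [Decomposition ℋM]
  {M : Type u} [AddCommGroup M] [Module R M] [Module k M] [IsScalarTower k R M] {ℳ : ℤ → AddSubgroup M}
  [Decomposition ℳ]
  {K : Type u} [AddCommGroup K] [Module R K] [Module k K] [IsScalarTower k R K] {𝒦 : ℤ → AddSubgroup K}
  [Decomposition 𝒦] [SetLike.GradedSMul 𝒜 𝒦] {βK : K →ₗ[k] H →ₗ[k] k} (hK : GrSeg.IsGDual R ℋ 𝒦 βK)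
  {D : Type u} [AddCommGroup D] [Module R D] [Module k D] [IsScalarTower k R D] {𝒟 : ℤ → AddSubgroup D}
  [Decomposition 𝒟] {βD : D →ₗ[k] HM →ₗ[k] k} (hD : GrSeg.IsGDual R ℋM 𝒟 βD)
  (μ : M →ₗ[R] H →ₗ[R] HM) (hμ : ∀ j g, ∀ x ∈ ℳ j, ∀ h ∈ ℋ g, μ x h ∈ ℋM (g + j))

include hK hD hμ

omit [SetLike.GradedSMul 𝒜 𝒦] in
theorem exists_kappa {d j : ℤ} {δ : D} (hδ : δ ∈ 𝒟 d) {x : M} (hx : x ∈ ℳ j) :
    ∃ κ ∈ 𝒦 (d + j), ∀ h, βK κ h = βD δ (μ x h) := by
  obtain ⟨κ, hκ, hκ'⟩ := exists_dual hK (d + j) (βD δ ∘ₗ (μ x).restrictScalars k)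
  refine ⟨κ, hκ, fun h => ?_⟩
  induction h using gr_induction ℋ with
  | h0 => simp
  | hadd a b ha hb => simp only [map_add, ha, hb]
  | hh g h hh =>
    rw [hκ']
    by_cases hg : g = -(d + j)
    · rw [hg] at hh
      rw [cmp_of_mem ℋ hh]
      rfl
    · rw [cmp_of_mem_ne ℋ hh hg, map_zero, hD.vanish d δ hδ (g + j) (by omega) _ (hμ j g x hx h hh)]

omit [SetLike.GradedSMul 𝒜 𝒦] in
theorem exists_kappa' (δ : D) (x : M) : ∃ κ, ∀ h, βK κ h = βD δ (μ x h) := by
  induction δ using gr_induction 𝒟 with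
  | h0 => exact ⟨0, fun h => by simp⟩
  | hadd a b ha hb =>
    obtain ⟨p, hp⟩ := ha
    obtain ⟨q, hq⟩ := hb
    exact ⟨p + q, fun h => by simp [hp, hq]⟩
  | hh d δ hδ =>
    induction x using gr_induction ℳ with
    | h0 => exact ⟨0, fun h => by simp⟩
    | hadd a b ha hb =>
      obtain ⟨p, hp⟩ := ha
      obtain ⟨q, hq⟩ := hb
      exact ⟨p + q, fun h => by simp [hp, hq]⟩
    | hh j x hx =>
      obtain ⟨κ, -, hκ⟩ := exists_kappa hK hD μ hμ hδ hx
      exact ⟨κ, hκ⟩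

/-- the value of a dual element on an element -/
def kap (δ : D) (x : M) : K := (exists_kappa' hK hD μ hμ δ x).choose

theorem kap_spec (δ : D) (x : M) (h : H) : βK (kap hK hD μ hμ δ x) h = βD δ (μ x h) :=
  (exists_kappa' hK hD μ hμ δ x).choose_spec h

/-- the map into the homomorphisms -/
def toHom : D →ₗ[R] M →ₗ[R] K :=
  LinearMap.mk₂ R (kap hK hD μ hμ)
    (fun δ δ' x => ext_dual hK fun h => by
      rw [kap_spec, map_add βK, LinearMap.add_apply, kap_spec, kap_spec, map_add, LinearMap.add_apply])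
    (fun r δ x => ext_dual hK fun h => by
      rw [kap_spec, hK.map_smul, kap_spec, hD.map_smul, map_smul (μ x)])
    (fun δ x y => ext_dual hK fun h => by
      rw [kap_spec, map_add βK, LinearMap.add_apply, kap_spec, kap_spec, map_add μ, LinearMap.add_apply, map_add])
    (fun r δ x => ext_dual hK fun h => by
      rw [kap_spec, hK.map_smul, kap_spec, map_smul μ, LinearMap.smul_apply, map_smul (μ x)])

theorem toHom_spec (δ : D) (x : M) (h : H) : βK (toHom hK hD μ hμ δ x) h = βD δ (μ x h) :=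
  kap_spec hK hD μ hμ δ x h

omit [SetLike.GradedSMul 𝒜 𝒦] in
theorem toHom_mem {d j : ℤ} {δ : D} (hδ : δ ∈ 𝒟 d) {x : M} (hx : x ∈ ℳ j) :
    toHom hK hD μ hμ δ x ∈ 𝒦 (j + d) := by
  obtain ⟨κ, hκ, hκ'⟩ := exists_kappa hK hD μ hμ hδ hx
  rw [show toHom hK hD μ hμ δ x = κ from ext_dual hK fun h => by rw [toHom_spec, hκ'], add_comm]
  exact hκ

variable {κ : Type u} [Fintype κ] (deg : κ → ℤ) (gen : κ → M) (hgen : ∀ a, gen a ∈ ℳ (deg a))
  (hspan : Submodule.span R (Set.range gen) = ⊤)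
  (hsurj : ∀ h : HM, ∃ z : κ → H, h = ∑ a, μ (gen a) (z a))
  (hrel : ∀ z : κ → H, ∑ a, μ (gen a) (z a) = 0 → ∃ (ν : Type u) (_ : Fintype ν) (w : ν → κ → R) (y : ν → H),
    (∀ c, ∑ a, w c a • gen a = 0) ∧ ∀ a, z a = ∑ c, w c a • y c)

include hgen hspan hsurj hrel

omit [SetLike.GradedSMul 𝒜 𝒦] in
theorem toHom_bijective : Function.Bijective (toHom hK hD μ hμ) := by
  classical
  refine ⟨fun δ δ' he => ext_dual hD fun h => ?_, fun F => ?_⟩
  · obtain ⟨z, rfl⟩ := hsurj h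
    simp only [map_sum]
    exact Finset.sum_congr rfl fun a _ => by rw [← toHom_spec hK hD μ hμ, ← toHom_spec hK hD μ hμ, he]
  let Φ : (κ → H) →ₗ[k] HM := ∑ a, (μ (gen a)).restrictScalars k ∘ₗ LinearMap.proj a
  let Ψ : (κ → H) →ₗ[k] k := ∑ a, βK (F (gen a)) ∘ₗ LinearMap.proj a
  have hΦ : ∀ z, Φ z = ∑ a, μ (gen a) (z a) := fun z => by simp [Φ]
  have hΨ : ∀ z, Ψ z = ∑ a, βK (F (gen a)) (z a) := fun z => by simp [Ψ]
  have hle : LinearMap.ker Φ ≤ LinearMap.ker Ψ := fun z hz => by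
    rw [LinearMap.mem_ker, hΦ] at hz
    obtain ⟨ν, _, w, y, hw, hzy⟩ := hrel z hz
    rw [LinearMap.mem_ker, hΨ]
    simp only [hzy, map_sum, ← hK.map_smul]
    rw [Finset.sum_comm]
    refine Finset.sum_eq_zero fun c _ => ?_
    have : βK (∑ a, F (w c a • gen a)) (y c) = 0 := by rw [← map_sum, hw c, map_zero, map_zero]; rfl
    simpa [map_sum] using this
  have hΦs : Function.Surjective Φ := fun h => by
    obtain ⟨z, hz⟩ := hsurj h
    exact ⟨z, (hΦ z).trans hz.symm⟩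
  obtain ⟨φ, hφ⟩ : ∃ φ : HM →ₗ[k] k, ∀ z, φ (Φ z) = Ψ z := by
    refine ⟨(LinearMap.ker Φ).liftQ Ψ hle ∘ₗ (Φ.quotKerEquivOfSurjective hΦs).symm.toLinearMap, fun z => ?_⟩
    rw [LinearMap.comp_apply, LinearEquiv.coe_coe,
      show (Φ.quotKerEquivOfSurjective hΦs).symm (Φ z) = Submodule.Quotient.mk z from (LinearEquiv.symm_apply_eq _).2 rfl]
    rfl
  choose S hS using fun a => exists_sum_cmp 𝒦 (F (gen a))
  let T : Finset ℤ := Finset.univ.biUnion fun a => (S a).image (· - deg a)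
  choose δ hδ hδ' using fun d : ℤ => exists_dual hD d φ
  have key : ∀ h, βD (∑ d ∈ T, δ d) h = φ h := by
    intro h
    induction h using gr_induction ℋM with
    | h0 => simp
    | hadd a b ha hb => simp only [map_add, ha, hb]
    | hh e h hh =>
      rw [map_sum, LinearMap.sum_apply]
      simp only [hδ']
      by_cases he : -e ∈ T
      · rw [Finset.sum_eq_single (-e) (fun d _ hd => by rw [cmp_of_mem_ne ℋM hh (by omega), map_zero])
          fun h' => absurd he h', neg_neg, cmp_of_mem ℋM hh]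
      rw [Finset.sum_eq_zero fun d hd => by
        rw [cmp_of_mem_ne ℋM hh (fun heq => he (by rwa [heq, neg_neg])), map_zero]]
      obtain ⟨z, hz⟩ := hsurj h
      have hh' : h = Φ (fun a => cmp ℋ (e - deg a) (z a)) := by
        rw [hΦ, ← cmp_of_mem ℋM hh, hz, map_sum]
        refine Finset.sum_congr rfl fun a _ => ?_
        induction z a using gr_induction ℋ with
        | h0 => simp
        | hadd p q hp hq => simp only [map_add, hp, hq]
        | hh g v hv =>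
          have hm := hμ (deg a) g _ (hgen a) v hv
          by_cases hg : g = e - deg a
          · subst hg
            rw [sub_add_cancel] at hm
            rw [cmp_of_mem ℋM hm, cmp_of_mem ℋ hv]
          · rw [cmp_of_mem_ne ℋM hm (by omega), cmp_of_mem_ne ℋ hv hg, map_zero]
      rw [hh', hφ, hΨ]
      refine (Finset.sum_eq_zero fun a _ => ?_).symm
      rw [hS a, map_sum, LinearMap.sum_apply]
      refine Finset.sum_eq_zero fun g hg => hK.vanish g _ (cmp_mem 𝒦 g _) (e - deg a) (fun heq => he ?_) _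
        (cmp_mem ℋ _ _)
      exact Finset.mem_biUnion.2 ⟨a, Finset.mem_univ a, Finset.mem_image.2 ⟨g, hg, by omega⟩⟩
  refine ⟨∑ d ∈ T, δ d, LinearMap.ext_on_range hspan fun a => ext_dual hK fun h => ?_⟩
  rw [toHom_spec, key]
  have h1 := hφ (Pi.single a h)
  rw [hΦ, hΨ, Finset.sum_eq_single a, Finset.sum_eq_single a] at h1
  · simpa using h1
  all_goals simp +contextual [Pi.single_eq_of_ne]

/-- The duality isomorphism. -/
theorem exists_equiv_hom :
    ∃ ε : D ≃ₗ[R] (M →ₗ[R] K), IsGrHom 𝒟 (fun d : ℤ => (_root_.GrLC.homDeg 𝒜 ℳ 𝒦 d).toAddSubgroup) ε.toLinearMap :=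
  ⟨LinearEquiv.ofBijective _ (toHom_bijective hK hD μ hμ deg gen hgen hspan hsurj hrel),
    fun _ _ hδ _ _ hx => toHom_mem hK hD μ hμ hδ hx⟩

end

end GrothLib.GrDual
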